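import Cfsg.Agent.BinaryInv.Tools
import Cfsg.Agent.InvolCalc.StronglyEmbedded
import Cfsg.Agent.Goldschmidt.Consequences.QuasiMain
import Mathlib

/-!
A binary action of a group with one class of involutions on the cosets of a subgroup of even order:
commuting involutions fix the same points, and there is a strongly embedded subgroup.
-/

set_option autoImplicit false
set_option linter.style.haveILetI false

namespace Cfsg.Lib.BinaryInv

open Cfsg.Lib.Suz.Binary
open scoped Pointwise

universe u

variable {G : Type u} [Group G] [Finite G]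

/-- The points fixed by an element. -/
def fixPts (H : Subgroup G) (t : G) : Set (G ⧸ H) := {p | t • p = p}

omit [Finite G] in
theorem fixPts_conj (H : Subgroup G) (g t : G) : fixPts H (g * t * g⁻¹) = g • fixPts H t := by
  ext p
  rw [Set.mem_smul_set_iff_inv_smul_mem]
  simp only [fixPts, Set.mem_ofPred_eq, mul_smul]
  exact smul_eq_iff_eq_inv_smul g

omit [Finite G] in
theorem one_mem_fixPts {H : Subgroup G} {t : G} : ((1 : G) : G ⧸ H) ∈ fixPts H t ↔ t ∈ H := by
  show t • _ = _ ↔ _
  rw [smul_mk_eq_iff]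
  simp

variable {H : Subgroup G} (hbin : Bin H)
  (hone : ∀ s t : G, orderOf s = 2 → orderOf t = 2 → IsConj s t)

include hone in
omit [Finite G] in
theorem ncard_fixPts {s t : G} (hs : orderOf s = 2) (ht : orderOf t = 2) :
    (fixPts H s).ncard = (fixPts H t).ncard := by
  obtain ⟨g, rfl⟩ := isConj_iff.1 (hone s t hs ht)
  rw [fixPts_conj, Set.ncard_smul_set]

include hone in
theorem fixPts_nonempty (heven : Even (Nat.card H)) {t : G} (ht : orderOf t = 2) : (fixPts H t).Nonempty := by
  obtain ⟨t₀, ht₀H, ht₀⟩ := Cfsg.Lib.StrongEmb.exists_involution_of_even heven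
  obtain ⟨g, rfl⟩ := isConj_iff.1 (hone t₀ t ht₀ ht)
  rw [fixPts_conj]
  exact (Set.nonempty_of_mem (one_mem_fixPts.2 ht₀H)).smul_set

include hbin hone in
/-- Commuting involutions fix the same points. -/
theorem fixPts_eq {s t : G} (hs : orderOf s = 2) (ht : orderOf t = 2) (hst : s * t = t * s) :
    fixPts H s = fixPts H t := by
  classical
  rcases eq_or_ne s t with rfl | hne
  · rfl
  have hss : s * s = 1 := by rw [← pow_two, ← hs, pow_orderOf_eq_one]
  have htt : t * t = 1 := by rw [← pow_two, ← ht, pow_orderOf_eq_one]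
  have hu : orderOf (s * t) = 2 := by
    refine orderOf_eq_prime ?_ fun e => hne ?_
    · rw [pow_two]
      calc s * t * (s * t) = s * (t * s) * t := by group
        _ = s * (s * t) * t := by rw [hst]
        _ = (s * s) * (t * t) := by group
        _ = 1 := by rw [hss, htt, one_mul]
    · rw [← inv_eq_of_mul_eq_one_right hss]
      exact inv_eq_of_mul_eq_one_right e
  set u := s * t with hudef
  have hus : u * s = s * u := by rw [hudef, mul_assoc, ← hst]
  have htu : ∀ r ∈ fixPts H u, t • r = s • r := fun r hr => by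
    conv_lhs => rw [← one_smul G (t • r), ← hss, mul_smul, ← mul_smul s t]
    exact congrArg (s • ·) hr
  have hsu : ∀ r ∈ fixPts H u, s • r ∈ fixPts H u := fun r hr => by
    show u • s • r = s • r
    rw [← mul_smul, hus, mul_smul, show u • r = r from hr]
  have hsr : ∀ r : G ⧸ H, s • s • r = r := fun r => by rw [← mul_smul, hss, one_smul]
  let ι := fixPts H s ⊕ fixPts H t ⊕ fixPts H u
  let I : ι → G ⧸ H := Sum.elim (fun r => r.1) (Sum.elim (fun r => r.1) fun r => r.1)
  let J : ι → G ⧸ H := Sum.elim (fun r => r.1) (Sum.elim (fun r => r.1) fun r => s • r.1)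
  obtain ⟨k, hk⟩ := bin_finite hbin I J fun i j => by
    rcases i with i | i | i <;> rcases j with j | j | j
    · exact ⟨1, one_smul _ _, one_smul _ _⟩
    · exact ⟨1, one_smul _ _, one_smul _ _⟩
    · exact ⟨s, i.2, rfl⟩
    · exact ⟨1, one_smul _ _, one_smul _ _⟩
    · exact ⟨1, one_smul _ _, one_smul _ _⟩
    · exact ⟨t, i.2, htu _ j.2⟩
    · exact ⟨s, rfl, j.2⟩
    · exact ⟨t, htu _ i.2, j.2⟩
    · exact ⟨s, rfl, rfl⟩
  have hks : ∀ r ∈ fixPts H s, k • r = r := fun r hr => hk (Sum.inl ⟨r, hr⟩)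
  have hkt : ∀ r ∈ fixPts H t, k • r = r := fun r hr => hk (Sum.inr (Sum.inl ⟨r, hr⟩))
  have hku : ∀ r ∈ fixPts H u, k • r = s • r := fun r hr => hk (Sum.inr (Sum.inr ⟨r, hr⟩))
  by_cases hmove : ∃ r ∈ fixPts H u, s • r ≠ r
  · obtain ⟨r, hr, hrne⟩ := hmove
    have hk2 : (k ^ 2) • r = r := by
      rw [pow_two, mul_smul, hku r hr, hku _ (hsu r hr), hsr]
    have hev : Even (orderOf k) := by
      by_contra hodd
      rw [Nat.not_even_iff_odd] at hodd
      obtain ⟨m, hm⟩ := hodd
      have hfix : ∀ j : ℕ, ((k ^ 2) ^ j) • r = r := fun j => by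
        induction j with
        | zero => simp
        | succ j ih => rw [pow_succ, mul_smul, hk2, ih]
      have h1 : k = (k ^ 2) ^ (m + 1) := by
        rw [← pow_mul, show 2 * (m + 1) = 2 * m + 1 + 1 by ring, pow_succ, ← hm, pow_orderOf_eq_one, one_mul]
      refine hrne ?_
      rw [← hku r hr, h1, hfix]
    obtain ⟨m, hm⟩ := hev
    have hmpos : 0 < m := by
      have := orderOf_pos k
      omega
    have hk' : orderOf (k ^ m) = 2 := orderOf_eq_prime
      (by rw [← pow_mul, mul_two, ← hm, pow_orderOf_eq_one])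
      (pow_ne_one_of_lt_orderOf hmpos.ne' (by omega))
    have hsub : fixPts H s ∪ fixPts H t ⊆ fixPts H (k ^ m) := by
      intro q hq
      have hq' : k • q = q := hq.elim (hks q) (hkt q)
      show (k ^ m) • q = q
      clear hm hmpos hk'
      induction m with
      | zero => simp
      | succ j ih => rw [pow_succ, mul_smul, hq', ih]
    have h1 := Set.ncard_le_ncard hsub (Set.toFinite _)
    rw [ncard_fixPts hone hk' hs] at h1
    have hs' : fixPts H s = fixPts H s ∪ fixPts H t :=
      Set.eq_of_subset_of_ncard_le Set.subset_union_left h1 (Set.toFinite _)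
    refine (Set.eq_of_subset_of_ncard_le (fun q hq => ?_) (ncard_fixPts hone hs ht).le (Set.toFinite _)).symm
    rw [hs']
    exact Or.inr hq
  · push Not at hmove
    have h1 : fixPts H u = fixPts H s :=
      Set.eq_of_subset_of_ncard_le hmove (ncard_fixPts hone hs hu).le (Set.toFinite _)
    refine Set.eq_of_subset_of_ncard_le (fun q hq => ?_) (ncard_fixPts hone ht hs).le (Set.toFinite _)
    show t • q = q
    rw [htu q (h1 ▸ hq)]
    exact hq

include hbin hone in
/-- The subgroup contains the involutions that centralise one of its involutions. -/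
theorem mem_of_commute {s t : G} (hs : orderOf s = 2) (ht : orderOf t = 2) (hst : s * t = t * s)
    (hsH : s ∈ H) : t ∈ H :=
  one_mem_fixPts.1 (fixPts_eq hbin hone hs ht hst ▸ one_mem_fixPts.2 hsH)

include hbin hone in
theorem exists_stronglyEmbedded [IsSimpleGroup G] (hH : H ≠ ⊤) (heven : Even (Nat.card H)) :
    ∃ M : Subgroup G, Cfsg.IsStronglyEmbedded M := by
  classical
  haveI : Fact (Nat.Prime 2) := ⟨Nat.prime_two⟩
  obtain ⟨t, -, ht⟩ := Cfsg.Lib.StrongEmb.exists_involution_of_even heven
  have hne : t ≠ 1 := fun e => by rw [e, orderOf_one] at ht; omega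
  set Φ := fixPts H t with hΦ
  set M := MulAction.stabilizer G Φ with hM
  have hcomm : ∀ {g : G}, g * t = t * g → g ∈ M := fun {g} h => by
    rw [hM, MulAction.mem_stabilizer_iff, hΦ, ← fixPts_conj, h, mul_inv_cancel_right]
  refine ⟨M, fun htop => ?_, ?_, ?_⟩
  · have hall : ∀ q : G ⧸ H, q ∈ Φ := fun q => by
      obtain ⟨r, hr⟩ := fixPts_nonempty hone heven ht
      obtain ⟨g, rfl⟩ := MulAction.exists_smul_eq G r q
      have hg : g • Φ = Φ := MulAction.mem_stabilizer_iff.1 (hM ▸ htop ▸ Subgroup.mem_top g)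
      rw [← hg]
      exact Set.smul_mem_smul_set hr
    have hcore : t ∈ H.normalCore := fun g => by
      have h := hall ((g⁻¹ : G) : G ⧸ H)
      rw [hΦ, fixPts, Set.mem_ofPred_eq, smul_mk_eq_iff, inv_inv] at h
      exact h
    rcases IsSimpleGroup.eq_bot_or_eq_top_of_normal H.normalCore inferInstance with h | h
    · exact hne (Subgroup.mem_bot.1 (h ▸ hcore))
    · exact hH (top_le_iff.1 (h ▸ H.normalCore_le))
  · exact even_iff_two_dvd.2 (ht ▸ Subgroup.orderOf_mk t (hcomm rfl) ▸ orderOf_dvd_natCard _)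
  -- every involution of `M` fixes exactly the points of `Φ`
  obtain ⟨S, hS⟩ := (IsPGroup.of_card (p := 2) (G := Subgroup.zpowers (⟨t, hcomm rfl⟩ : M)) (n := 1)
    (by rw [Nat.card_zpowers, Subgroup.orderOf_mk, ht, pow_one])).exists_le_sylow
  have hinv : ∀ s ∈ M, orderOf s = 2 → fixPts H s = Φ := by
    -- a central involution of `S` and the normaliser of `S`
    have hSne : (S : Subgroup M) ≠ ⊥ := fun e => by
      have hmem : (⟨t, hcomm rfl⟩ : M) ∈ (⊥ : Subgroup M) := e ▸ hS (Subgroup.mem_zpowers _)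
      exact hne (congrArg Subtype.val (Subgroup.mem_bot.1 hmem))
    haveI : Nontrivial S := (Subgroup.nontrivial_iff_ne_bot _).2 hSne
    haveI := S.2.center_nontrivial
    obtain ⟨j, hj0, hj⟩ := (S.2.to_subgroup (Subgroup.center S)).nontrivial_iff_card.1 inferInstance
    obtain ⟨z, -, hz⟩ := Cfsg.Lib.StrongEmb.exists_involution_of_even (K := (⊤ : Subgroup (Subgroup.center S)))
      (by rw [Subgroup.card_top, hj]; exact (even_two.pow_of_ne_zero hj0.ne'))
    set zG : G := ((z.1 : M) : G) with hzG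
    have hzo : orderOf zG = 2 := by
      rw [hzG, Subgroup.orderOf_coe, Subgroup.orderOf_coe, Subgroup.orderOf_coe, hz]
    have hzc : ∀ x : M, x ∈ (S : Subgroup M) → zG * x = (x : G) * zG := fun x hx =>
      (congrArg (fun w : S => ((w : M) : G)) (Subgroup.mem_center_iff.1 z.2 ⟨x, hx⟩)).symm
    have hzΦ : fixPts H zG = Φ :=
      fixPts_eq hbin hone hzo ht (hzc ⟨t, hcomm rfl⟩ (hS (Subgroup.mem_zpowers _)))
    intro s hs hso
    obtain ⟨R, hR⟩ := (IsPGroup.of_card (p := 2) (G := Subgroup.zpowers (⟨s, hs⟩ : M)) (n := 1)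
      (by rw [Nat.card_zpowers, Subgroup.orderOf_mk, hso, pow_one])).exists_le_sylow
    obtain ⟨m, rfl⟩ := MulAction.exists_smul_eq M S R
    obtain ⟨w, hw, hwe⟩ := hR (Subgroup.mem_zpowers (⟨s, hs⟩ : M))
    have hwe' : s = (m : G) * (w : G) * (m : G)⁻¹ := (congrArg Subtype.val hwe).symm
    have hwo : orderOf (w : G) = 2 := by
      rw [← hso, hwe']
      exact (orderOf_injective (MulAut.conj (m : G)).toMonoidHom (MulAut.conj (m : G)).injective (w : G)).symm
    rw [hwe', fixPts_conj, fixPts_eq hbin hone hwo hzo (hzc w hw).symm, hzΦ]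
    exact MulAction.mem_stabilizer_iff.1 m.2
  intro g hg
  rw [← Nat.not_even_iff_odd]
  intro hev
  obtain ⟨s, ⟨hsM, w, hw, hws⟩, hso⟩ := Cfsg.Lib.StrongEmb.exists_involution_of_even hev
  have hws' : s = g * w * g⁻¹ := hws.symm
  have hwo : orderOf w = 2 := by
    rw [← hso, hws']
    exact (orderOf_injective (MulAut.conj g).toMonoidHom (MulAut.conj g).injective w).symm
  have h := hinv s hsM hso
  rw [hws', fixPts_conj, hinv w hw hwo] at h
  exact hg (MulAction.mem_stabilizer_iff.2 h)

include hbin hone in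
theorem bender [IsSimpleGroup G] (hH : H ≠ ⊤) (heven : Even (Nat.card H)) : Cfsg.IsBenderGroup G := by
  obtain ⟨M, hM⟩ := exists_stronglyEmbedded hbin hone hH heven
  refine Cfsg.Lib.Goldschmidt.QuasiMain.bender_of_embedded (fun hc => ?_) hM
  haveI : H.Normal := ⟨fun n hn g => by rw [hc.is_comm.comm g n, mul_inv_cancel_right]; exact hn⟩
  rcases IsSimpleGroup.eq_bot_or_eq_top_of_normal H inferInstance with h | h
  · rw [h, Subgroup.card_bot] at heven
    exact absurd heven (by decide)
  · exact hH h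

end Cfsg.Lib.BinaryInv
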