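import Cfsg.Agent.BinaryInv.UChord
import Mathlib

/-!
Binary actions of the projective special unitary group in dimension three over a field of even order.
-/

set_option autoImplicit false
set_option linter.unusedSectionVars false
set_option linter.style.haveILetI false

open scoped LinearAlgebra.Projectivization

namespace Cfsg.Lib.BinaryInv

open Cfsg.Lib.Classical Cfsg.Lib.Components.UnitaryThree Cfsg.Lib.Known.PSUThree Cfsg.Lib.Suz.Binary

universe u v w

variable {F : Type u} [Field F] [Finite F] [CharP F 2] {V : Type v} [AddCommGroup V] [Module F V]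
  [FiniteDimensional F V] {H : HermSpace F V} (hd : Module.finrank F V = 3)
  {G' : Type w} [Group G'] (π : H.SIsom →* G') (hπ : Function.Surjective π)
  (hker : π.ker = Subgroup.center H.SIsom)

include hd

theorem cube_of_center {z : H.SIsom} (hz : z ∈ Subgroup.center H.SIsom) : z ^ 3 = 1 := by
  obtain ⟨a, -, ha3, hx⟩ := (H.mem_center_SIsom_iff (by omega)).1 hz
  rw [hd] at ha3
  refine H.sisom_ext fun x => ?_
  rw [pow_succ, pow_two, H.smul_mul_apply, H.smul_mul_apply, hx, hx, hx, smul_smul, smul_smul,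
    show a * a * a = a ^ 3 by ring, ha3, one_smul]
  rfl

theorem eq_one_of_center_fix {B : Frame H} {g : H.SIsom} (hg : g ∈ Subgroup.center H.SIsom) (he : g ∈ fixE B) :
    g = 1 := by
  obtain ⟨a, -, -, hx⟩ := (H.mem_center_SIsom_iff (by omega)).1 hg
  have ha : a • B.e = (1 : F) • B.e := by rw [← hx, one_smul]; exact he
  refine H.sisom_ext fun x => ?_
  rw [hx, smul_left_injective F B.e_ne ha, one_smul]
  rfl

include hπ hker in
theorem exists_invol_lift {x : G'} (hx : x * x = 1) : ∃ t : H.SIsom, t * t = 1 ∧ π t = x := by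
  obtain ⟨g, rfl⟩ := hπ x
  have h2 : g * g ∈ Subgroup.center H.SIsom := by
    rw [← hker, MonoidHom.mem_ker, map_mul, hx]
  refine ⟨g ^ 3, ?_, ?_⟩
  · rw [← mul_pow_comm, cube_of_center hd h2]
  · rw [map_pow, pow_succ, pow_two, hx, one_mul]
where
  mul_pow_comm {g : H.SIsom} : (g * g) ^ 3 = g ^ 3 * g ^ 3 := (Commute.refl g).mul_pow 3

include hker in
theorem eq_of_map_eq {B : Frame H} {r s : H.SIsom} (hr : r ∈ fixE B) (hs : s ∈ fixE B) (h : π r = π s) : r = s := by
  have hm : r⁻¹ * s ∈ Subgroup.center H.SIsom := by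
    rw [← hker, MonoidHom.mem_ker, map_mul, map_inv, h, inv_mul_cancel]
  exact inv_mul_eq_one.1 (eq_one_of_center_fix hd hm (mul_mem (inv_mem hr) hs))

theorem root_sq {B : Frame H} {r : H.SIsom} (hr : r ∈ H.rootGroup B.ee) : r * r = 1 := by
  haveI : Fact (Nat.Prime 2) := ⟨Nat.prime_two⟩
  rw [← pow_two]
  exact root_pow_char hd B 2 hr

include hπ hker in
theorem mem_root_of_commute {B : Frame H} {x y : G'} (hx : x ∈ (H.rootGroup B.ee).map π) (hx1 : x ≠ 1)
    (hy : y * y = 1) (hxy : x * y = y * x) : y ∈ (H.rootGroup B.ee).map π := by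
  obtain ⟨r, hr, rfl⟩ := hx
  obtain ⟨t, ht, rfl⟩ := exists_invol_lift hd π hπ hker hy
  refine ⟨t, root_of_commute hd hr (fun e => hx1 (by rw [e, map_one])) ht ?_, rfl⟩
  have hr2 := root_sq hd hr
  have hz : r * t * r⁻¹ * t⁻¹ ∈ Subgroup.center H.SIsom := by
    rw [← hker, MonoidHom.mem_ker, map_mul, map_mul, map_mul, map_inv, map_inv, hxy, mul_inv_cancel_right,
      mul_inv_cancel]
  set z := r * t * r⁻¹ * t⁻¹ with hzdef
  have h3 := cube_of_center hd hz
  have h1 : z * t = r * t * r⁻¹ := by rw [hzdef]; group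
  have h2 : (z * t) * (z * t) = 1 := by
    rw [h1]
    calc r * t * r⁻¹ * (r * t * r⁻¹) = r * (t * t) * r⁻¹ := by group
      _ = 1 := by rw [ht]; group
  have h22 : z * z = 1 := by
    rw [← h2]
    calc z * z = z * z * (t * t) := by rw [ht, mul_one]
      _ = z * (z * t) * t := by group
      _ = z * (t * z) * t := by rw [Subgroup.mem_center_iff.1 hz t]
      _ = _ := by group
  have hz1 : z = 1 := by
    rw [pow_succ, pow_two, h22, one_mul] at h3
    exact h3
  rw [hz1, one_mul] at h1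
  calc r * t = r * t * r⁻¹ * r := by group
    _ = t * r := by rw [← h1]

include hπ hker in
theorem bin_root (B : Frame H) : Bin ((H.rootGroup B.ee).map π) := by
  refine bin_of_closed _ ?_ fun x hx hx1 y hy hxy => mem_root_of_commute hd π hπ hker hx hx1 hy hxy
  rintro _ ⟨r, hr, rfl⟩
  rw [← map_mul, root_sq hd hr, map_one]

include hπ hker in
theorem exists_sylow_center [Finite G'] (B : Frame H) :
    ∃ P : Sylow 2 G', (Subgroup.center (P : Subgroup G')).map (P : Subgroup G').subtype =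
      (H.rootGroup B.ee).map π := by
  classical
  haveI : Fact (Nat.Prime 2) := ⟨Nat.prime_two⟩
  obtain ⟨r, hr, hr1, -, hrc, -, -⟩ := exists_root hd B (map_one H.σ)
  have hrne : r ≠ 1 := fun e => by rw [e, (eb_one B).2] at hrc; exact zero_ne_one hrc
  have hπr : π r ≠ 1 := fun e => hrne (eq_of_map_eq hd π hker hr1 (one_mem (fixE B)) (by rw [e, map_one]))
  obtain ⟨P, hP⟩ := ((fixE_pgroup hd B 2).map π).exists_le_sylow
  have hrP : π r ∈ (P : Subgroup G') := hP ⟨r, hr1, rfl⟩
  haveI : Nontrivial (P : Subgroup G') :=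
    ⟨⟨⟨π r, hrP⟩, 1, fun e => hπr (congrArg Subtype.val e)⟩⟩
  haveI := P.2.center_nontrivial
  obtain ⟨j, hj0, hj⟩ := (P.2.to_subgroup (Subgroup.center (P : Subgroup G'))).nontrivial_iff_card.1 inferInstance
  obtain ⟨c, hc⟩ := exists_prime_orderOf_dvd_card' (G := Subgroup.center (P : Subgroup G')) 2
    (hj ▸ dvd_pow_self 2 hj0.ne')
  set z : G' := ((c : (P : Subgroup G')) : G') with hz
  have hcz : ∀ p ∈ (P : Subgroup G'), p * z = z * p := fun p hp =>
    congrArg Subtype.val (Subgroup.mem_center_iff.1 c.2 ⟨p, hp⟩)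
  have hzo : orderOf z = 2 := by rw [hz, Subgroup.orderOf_coe, Subgroup.orderOf_coe, hc]
  have hz2 : z * z = 1 := by rw [← pow_two, ← hzo, pow_orderOf_eq_one]
  obtain ⟨s, hs, hsz⟩ : z ∈ (H.rootGroup B.ee).map π :=
    mem_root_of_commute hd π hπ hker ⟨r, hr, rfl⟩ hπr hz2 (hcz _ hrP)
  have hs1 : s ≠ 1 := fun e => by
    rw [e, map_one] at hsz
    rw [← hsz, orderOf_one] at hzo
    omega
  have hsfix := (root_le_fixE B).1 hs
  have hPU : (P : Subgroup G') = (fixE B).map π := by
    refine le_antisymm (fun p hp => ?_) hP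
    obtain ⟨g, rfl⟩ := hπ p
    have hcomm : g * s * g⁻¹ * s⁻¹ ∈ Subgroup.center H.SIsom := by
      rw [← hker, MonoidHom.mem_ker, map_mul, map_mul, map_mul, map_inv, map_inv, hsz, hcz _ hp,
        mul_inv_cancel_right, mul_inv_cancel]
    have hst : g ∈ stE B := by
      obtain ⟨a, -, -, hx⟩ := (H.mem_center_SIsom_iff (by omega)).1 hcomm
      show g • pt B = pt B
      have h : (g * s * g⁻¹ * s⁻¹) • (g • pt B) = g • pt B := by
        induction (g • pt B) using H.isoPt_ind with | h x hx0 hxx => ?_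
        rw [HermSpace.smul_isoMk, HermSpace.isoMk_eq_iff]
        exact ⟨a, (hx x).symm⟩
      have hfix : s • pt B = pt B := fixE_le_stE B hsfix
      have hfi : s⁻¹ • (g • pt B) = g • pt B := by
        have h' : (g * s * g⁻¹ * s⁻¹)⁻¹ • (g • pt B) = g • pt B := inv_smul_eq_iff.2 h.symm
        rw [show (g * s * g⁻¹ * s⁻¹)⁻¹ = s * (g * s⁻¹ * g⁻¹) by group, mul_smul, mul_smul, mul_smul,
          inv_smul_smul, inv_smul_eq_iff.2 hfix.symm] at h'
        exact inv_smul_eq_iff.2 h'.symm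
      exact fix_pt hd B (inv_mem hsfix) (inv_ne_one.2 hs1) hfi
    obtain ⟨k, hk⟩ := P.2 ⟨π g, hp⟩
    have hk' : π g ^ 2 ^ k = 1 := congrArg Subtype.val hk
    have hgk : g ^ 2 ^ k ∈ Subgroup.center H.SIsom := by rw [← hker, MonoidHom.mem_ker, map_pow, hk']
    have h3 : (g ^ 3) ^ 2 ^ k = 1 := by rw [← pow_mul, mul_comm, pow_mul, cube_of_center hd hgk]
    have hg3 : g ^ 3 ∈ fixE B := by
      have hm := pow_mem hst 3
      obtain ⟨he, -⟩ := coords hd B hm
      show (g ^ 3).1.1 B.e = B.e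
      have ha : ∀ n : ℕ, ((g ^ 3) ^ n).1.1 B.e = (ea B (g ^ 3)) ^ n • B.e := fun n => by
        induction n with
        | zero => rw [pow_zero, pow_zero, one_smul]; rfl
        | succ n ih => rw [pow_succ, H.smul_mul_apply, he, map_smul, ih, smul_smul, ← pow_succ']
      have h1 := ha (2 ^ k)
      rw [h3] at h1
      have h1' : (1 : F) • B.e = (ea B (g ^ 3)) ^ 2 ^ k • B.e := by rw [one_smul]; exact h1
      have h2 : (ea B (g ^ 3) - 1) ^ 2 ^ k = 0 := by
        rw [sub_pow_char_pow, ← smul_left_injective F B.e_ne h1', one_pow, sub_self]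
      rw [he, sub_eq_zero.1 ((pow_eq_zero_iff (pow_ne_zero k two_ne_zero)).1 h2), one_smul]
    obtain ⟨m, hm⟩ := exists_pow_eq_self_of_coprime (n := 3) (x := π g)
      (Nat.Coprime.coprime_dvd_right (orderOf_dvd_of_pow_eq_one hk') (Nat.Coprime.pow_right k (by decide)))
    rw [← hm, ← map_pow]
    exact pow_mem (Subgroup.mem_map_of_mem π hg3) m
  refine ⟨P, le_antisymm ?_ ?_⟩
  · rintro _ ⟨⟨p, hp⟩, hpc, rfl⟩
    obtain ⟨u, hu, rfl⟩ : p ∈ (fixE B).map π := hPU ▸ hp
    have hcu : ∀ v ∈ fixE B, v * u = u * v := fun v hv => by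
      refine eq_of_map_eq hd π hker (mul_mem hv hu) (mul_mem hu hv) ?_
      rw [map_mul, map_mul]
      exact congrArg Subtype.val (Subgroup.mem_center_iff.1 hpc ⟨π v, hP ⟨v, hv, rfl⟩⟩)
    obtain ⟨θ, hθ⟩ := H.conj.exists_trace_one
    have key : ∀ c : F, H.σ (eb B u) * c = H.σ c * eb B u := by
      intro c
      obtain ⟨v, hv, hvb⟩ := exists_fixE_eb hd B c
      have h1 := (eb_mul hd B hv hu).2
      have h2 := (eb_mul hd B hu hv).2
      rw [hcu v hv, h2, hvb] at h1
      linear_combination h1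
    have k1 : H.σ (eb B u) = eb B u := by simpa using key 1
    have k2 := key θ
    rw [k1] at k2
    have hb : eb B u = 0 := by
      linear_combination (-eb B u) * hθ + k2 + (H.σ θ * eb B u) * two_eq (F := F)
    exact ⟨u, mem_root_of_eb hd B hu hb, rfl⟩
  · rintro _ ⟨v, hv, rfl⟩
    have hvfix := (root_le_fixE B).1 hv
    refine ⟨⟨π v, hP ⟨v, hvfix, rfl⟩⟩, Subgroup.mem_center_iff.2 ?_, rfl⟩
    rintro ⟨p, hp⟩
    obtain ⟨u, hu, rfl⟩ : p ∈ (fixE B).map π := hPU ▸ hp
    refine Subtype.ext ?_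
    show π u * π v = π v * π u
    rw [← map_mul, ← map_mul]
    congr 1
    obtain ⟨hc1, hc2⟩ := conj_ec hd B (fixE_le_stE B hu) hv
    rw [show ea B u = 1 by rw [ea, show u.1.1 B.e = B.e from hu, B.ef], map_one, one_mul, one_mul] at hc2
    have h := ext_fixE hd B ((root_le_fixE B).1 hc1) hvfix
      (by rw [(root_le_fixE B).2 _ hc1, (root_le_fixE B).2 _ hv]) hc2
    calc u * v = u * v * u⁻¹ * u := by group
      _ = v * u := by rw [h]

variable (hσ : ∀ x, H.σ x = x ^ H.q) (hq : 4 ≤ H.q)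

include hπ hker hσ hq in
/-- The forward direction. -/
theorem eq_root_of_bin {L : Subgroup G'} (hbin : Bin L) (hL : L ≠ ⊤)
    (hcl : ∀ s t : G', orderOf s = 2 → orderOf t = 2 → s * t = t * s → s ∈ L → t ∈ L)
    {x : G'} (hx : orderOf x = 2) (hxL : x ∈ L) : ∃ B : Frame H, L = (H.rootGroup B.ee).map π := by
  classical
  set K := L.comap π with hK
  have hbinK : Bin K := bin_comap π hπ hbin
  have hKtop : K ≠ ⊤ := fun e => hL (by
    rw [← Subgroup.map_comap_eq_self_of_surjective hπ L, ← hK, e, Subgroup.map_top_of_surjective _ hπ])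
  have hZ : Subgroup.center H.SIsom ≤ K := hker ▸ MonoidHom.ker_le_comap π L
  obtain ⟨t, ht, rfl⟩ := exists_invol_lift hd π hπ hker (by rw [← pow_two, ← hx, pow_orderOf_eq_one] : x * x = 1)
  have ht1 : t ≠ 1 := fun e => by rw [e, map_one, orderOf_one] at hx; omega
  obtain ⟨B, htB⟩ := exists_root_of_invol hd ht ht1
  have hR : H.rootGroup B.ee ≤ K := by
    intro r hr
    rcases eq_or_ne (π r) 1 with h1 | h1
    · show π r ∈ L
      rw [h1]; exact one_mem L
    refine hcl (π t) (π r) hx (orderOf_eq_prime (by rw [pow_two, ← map_mul, root_sq hd hr, map_one]) h1) ?_ hxL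
    rw [← map_mul, ← map_mul]
    congr 1
    refine ext_fixE hd B (mul_mem ((root_le_fixE B).1 htB) ((root_le_fixE B).1 hr))
      (mul_mem ((root_le_fixE B).1 hr) ((root_le_fixE B).1 htB)) ?_ ?_
    · rw [eb_prod hd ((root_le_fixE B).1 htB) ((root_le_fixE B).1 hr),
        eb_prod hd ((root_le_fixE B).1 hr) ((root_le_fixE B).1 htB), add_comm]
    · rw [(eb_mul hd B ((root_le_fixE B).1 htB) ((root_le_fixE B).1 hr)).2,
        (eb_mul hd B ((root_le_fixE B).1 hr) ((root_le_fixE B).1 htB)).2, (root_le_fixE B).2 _ htB,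
        (root_le_fixE B).2 _ hr]
      ring
  have hst : K ≤ stE B := by
    intro g hg
    by_contra hgst
    have hee : H.h (g.1.1 B.e) (g.1.1 B.e) = 0 := by rw [H.map_form, B.ee]
    have hR' := root_conj_le hd B.ee hR hg rfl hee
    have hc : H.h (g.1.1 B.e) B.e ≠ 0 := by
      intro hc
      have hd1 := decomp hd B (g.1.1 B.e)
      rw [hc, zero_smul, add_zero] at hd1
      have hb : H.h (g.1.1 B.e) B.w = 0 := by
        have h := hee
        rw [hd1] at h
        simpa [H.add_left, H.add_right, H.smul_left, H.smul_right, B.ee, B.ww, B.we, B.ew] using h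
      rw [hb, zero_smul, add_zero] at hd1
      exact hgst (mem_stE.2 ⟨_, hd1⟩)
    obtain ⟨f, hf⟩ : ∃ f, f = (H.h (g.1.1 B.e) B.e)⁻¹ • g.1.1 B.e := ⟨_, rfl⟩
    have hfe : H.h f B.e = 1 := by rw [hf, H.smul_left, inv_mul_cancel₀ hc]
    have hff : H.h f f = 0 := by rw [hf, H.smul_left, H.smul_right, hee, mul_zero, mul_zero]
    obtain ⟨C, hCe, hCf⟩ := exists_reframe hd B hff hfe
    refine not_bin_chord hd (B := C) ?_ ?_ hq hKtop hbinK
    · rw [H.rootGroup_congr C.ee B.ee hCe]
      exact hR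
    · rw [H.rootGroup_eq_of_smul hee C.ff (inv_ne_zero hc) (hCf.trans hf)]
      exact hR'
  refine ⟨B, le_antisymm (fun y hy => ?_) ?_⟩
  · obtain ⟨g, rfl⟩ := hπ y
    obtain ⟨r, hr, z, hz, rfl⟩ := borel_binary hd hR hσ hq hst hZ hbinK (show g ∈ K from hy)
    rw [map_mul, MonoidHom.mem_ker.1 (show z ∈ π.ker from hker ▸ hz), mul_one]
    exact Subgroup.mem_map_of_mem π hr
  · rintro _ ⟨r, hr, rfl⟩
    exact hR hr

end Cfsg.Lib.BinaryInv
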