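import Cfsg.Agent.BinaryInv.Fix
import Cfsg.Agent.BinaryInv.UQuot
import Cfsg.Agent.Known.PSUThree.Main
import Cfsg.Agent.BenderSE.Dependents.Rows
import Cfsg.Agent.S5736
import Cfsg.Agent.S5737
import Mathlib

/-!
Binary coset actions of simple groups with one class of involutions on subgroups of even order.
-/

set_option autoImplicit false
set_option linter.unusedSectionVars false
set_option linter.style.haveILetI false

open Cfsg

namespace Cfsg.Lib.BinaryInv

open Cfsg.Lib.Classical Cfsg.Lib.Components.UnitaryThree Cfsg.Lib.Known.PSUThree Cfsg.Lib.Suz.Binary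

universe u

/-- The centre of a Sylow subgroup, inside the group. -/
noncomputable def sylCenter {A : Type*} [Group A] (P : Sylow 2 A) : Subgroup A :=
  (Subgroup.center (P : Subgroup A)).map (P : Subgroup A).subtype

theorem sylCenter_map {A B : Type*} [Group A] [Group B] [Finite A] (f : A ≃* B) (P : Sylow 2 A) :
    sylCenter (P.mapSurjective (f := f.toMonoidHom) f.surjective) = (sylCenter P).map f.toMonoidHom := by
  ext z
  simp only [sylCenter, Subgroup.mem_map]
  constructor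
  · rintro ⟨w, hw, rfl⟩
    obtain ⟨v, hv, hvw⟩ := w.2
    refine ⟨v, ⟨⟨v, hv⟩, Subgroup.mem_center_iff.2 fun u => Subtype.ext (f.injective ?_), rfl⟩, hvw⟩
    show f (u.1 * v) = f (v * u.1)
    rw [map_mul, map_mul, show f v = w.1 from hvw]
    exact congrArg Subtype.val (Subgroup.mem_center_iff.1 hw ⟨f u.1, ⟨u.1, u.2, rfl⟩⟩)
  · rintro ⟨v, ⟨v', hv', rfl⟩, rfl⟩
    refine ⟨⟨f v'.1, ⟨v'.1, v'.2, rfl⟩⟩, Subgroup.mem_center_iff.2 fun u => Subtype.ext ?_, rfl⟩
    obtain ⟨w, hw, hwu⟩ := u.2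
    have := congrArg (fun z => f (Subtype.val z)) (Subgroup.mem_center_iff.1 hv' ⟨w, hw⟩)
    show u.1 * f v'.1 = f v'.1 * u.1
    rw [← show f w = u.1 from hwu, ← map_mul, ← map_mul]
    exact this

/-- The unitary case. -/
theorem psu_binary {F : Type} [Field F] [Fintype F] {n : ℕ} (hn : 2 ≤ n) (hF : Fintype.card F = (2 ^ n) ^ 2)
    (L : Subgroup (Cfsg.PSU 3 F (2 ^ n))) :
    ((∃ P : Sylow 2 (Cfsg.PSU 3 F (2 ^ n)), L = sylCenter P) → Bin L) ∧
    (Bin L → L ≠ ⊤ →
      (∀ s t : Cfsg.PSU 3 F (2 ^ n), orderOf s = 2 → orderOf t = 2 → s * t = t * s → s ∈ L → t ∈ L) →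
      (∃ x ∈ L, orderOf x = 2) → ∃ P : Sylow 2 (Cfsg.PSU 3 F (2 ^ n)), L = sylCenter P) := by
  classical
  haveI : CharP F 2 := by
    refine CharTwo.of_one_ne_zero_of_two_eq_zero one_ne_zero ?_
    have h0 : ((Fintype.card F : ℕ) : F) = 0 := FiniteField.cast_card_eq_zero F
    rw [hF, ← pow_mul, Nat.cast_pow, Nat.cast_ofNat] at h0
    exact (pow_eq_zero_iff (by omega)).mp h0
  have h4 : 4 ≤ 2 ^ n := le_of_eq_of_le (by norm_num) (Nat.pow_le_pow_right two_pos hn)
  have S := setup_std hF (show 3 ≤ 2 ^ n by omega)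
  haveI : Finite (stdHerm 3 hF).SIsom := finite_sisom
  let π : (stdHerm 3 hF).SIsom →* Cfsg.PSU 3 F (2 ^ n) :=
    (QuotientGroup.mk' _).comp (suEquiv 3 hF).toMonoidHom
  have hπ : Function.Surjective π := (QuotientGroup.mk'_surjective _).comp (suEquiv 3 hF).surjective
  haveI : Finite (Cfsg.PSU 3 F (2 ^ n)) := Finite.of_surjective _ hπ
  have hker : π.ker = Subgroup.center (stdHerm 3 hF).SIsom := by
    ext g
    rw [MonoidHom.mem_ker]
    show (QuotientGroup.mk (suEquiv 3 hF g) : Cfsg.PSU 3 F (2 ^ n)) = 1 ↔ _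
    rw [QuotientGroup.eq_one_iff, Subgroup.mem_center_iff, Subgroup.mem_center_iff]
    refine ⟨fun h k => (suEquiv 3 hF).injective (by rw [map_mul, map_mul, h]), fun h k => ?_⟩
    obtain ⟨k, rfl⟩ := (suEquiv 3 hF).surjective k
    rw [← map_mul, ← map_mul, h]
  haveI : Fact (Nat.Prime 2) := ⟨Nat.prime_two⟩
  have hq : 4 ≤ (stdHerm 3 hF).q := by rw [stdHerm_q]; exact h4
  have hpts : ∃ B : Frame (stdHerm 3 hF), True := by
    obtain ⟨v, hv, hvv⟩ := (stdHerm 3 hF).exists_isotropic_of_two_le (by rw [S.dim]; norm_num)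
    obtain ⟨B, -⟩ := exists_frame S.dim hv hvv
    exact ⟨B, trivial⟩
  constructor
  · rintro ⟨P, rfl⟩
    obtain ⟨B, -⟩ := hpts
    obtain ⟨P₀, hP₀⟩ := exists_sylow_center S.dim π hπ hker B
    obtain ⟨g, rfl⟩ := MulAction.exists_smul_eq (Cfsg.PSU 3 F (2 ^ n)) P₀ P
    have h0 : Bin (sylCenter P₀) := by
      rw [sylCenter, hP₀]
      exact bin_root S.dim π hπ hker B
    rw [show g • P₀ = P₀.mapSurjective (f := (MulAut.conj g).toMonoidHom) (MulAut.conj g).surjective from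
      Sylow.ext rfl, sylCenter_map]
    exact bin_map (MulAut.conj g) rfl h0
  · intro hbin hL hcl hx
    obtain ⟨x, hxL, hx⟩ := hx
    obtain ⟨B, hB⟩ := eq_root_of_bin S.dim π hπ hker S.pow hq hbin hL hcl hx hxL
    obtain ⟨P, hP⟩ := exists_sylow_center S.dim π hπ hker B
    exact ⟨P, by rw [hB, sylCenter, hP]⟩

theorem bin_top {G : Type*} [Group G] : Bin (⊤ : Subgroup G) := fun _ _ _ _ _ =>
  ⟨1, fun _ => (QuotientGroup.subsingleton_quotient_top (G := G)).elim _ _⟩

theorem bin_of_sl {G : Type u} [Group G] [Finite G] {F : Type} [Field F] [Fintype F] {a : ℕ} (ha : 2 ≤ a)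
    (hF : Fintype.card F = 2 ^ a) (e : G ≃* Matrix.SpecialLinearGroup (Fin 2) F) (P : Sylow 2 G) :
    Bin (P : Subgroup G) := by
  obtain ⟨-, h4, ⟨e2⟩⟩ := Cfsg.Lib.BenderSE.sl_equiv ha hF
  set f := e.trans e2.symm with hf
  set Q := P.mapSurjective (f := f.toMonoidHom) f.surjective
  have h5 : Fintype.card F ≠ 5 := by
    rw [hF]
    intro h
    have h2 : 2 ∣ 2 ^ a := dvd_pow_self 2 (by omega)
    rw [h] at h2
    omega
  have hQ : Bin (Q : Subgroup (Matrix.ProjectiveSpecialLinearGroup (Fin 2) F)) := by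
    by_cases hQ : (Q : Subgroup (Matrix.ProjectiveSpecialLinearGroup (Fin 2) F)) = ⊤
    · rw [hQ]
      exact bin_top
    · exact (Cfsg.Agent.S5736.result h4 h5 Q hQ).2 (Or.inr (Or.inl ⟨⟨a, hF⟩, Q, rfl⟩))
  refine bin_map f.symm ?_ hQ
  rw [show (Q : Subgroup (Matrix.ProjectiveSpecialLinearGroup (Fin 2) F)) = (P : Subgroup G).map f.toMonoidHom
    from rfl, Subgroup.map_map]
  convert Subgroup.map_id (P : Subgroup G)
  ext x
  simp

theorem main {G : Type u} [Group G] [Finite G] [IsSimpleGroup G]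
    (hone : ∀ s t : G, orderOf s = 2 → orderOf t = 2 → IsConj s t) {H : Subgroup G} (hH : H ≠ ⊤)
    (heven : Even (Nat.card H)) :
    Bin H ↔
      (((∃ (F : Type) (_ : Field F) (_ : Fintype F) (a : ℕ), 2 ≤ a ∧ Fintype.card F = 2 ^ a ∧
            Nonempty (G ≃* Matrix.SpecialLinearGroup (Fin 2) F)) ∧ ∃ P : Sylow 2 G, H = P) ∨
        (Cfsg.Lie.IsoSuzuki G ∧ ∃ P : Sylow 2 G, H = sylCenter P) ∨
        ((∃ (F : Type) (_ : Field F) (_ : Fintype F) (a : ℕ), 2 ≤ a ∧ Fintype.card F = (2 ^ a) ^ 2 ∧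
            Nonempty (G ≃* Cfsg.PSU 3 F (2 ^ a))) ∧ ∃ P : Sylow 2 G, H = sylCenter P)) := by
  classical
  haveI : Fact (Nat.Prime 2) := ⟨Nat.prime_two⟩
  have hback : ∀ {B : Type} [Group B] (f : G ≃* B) (L : Subgroup G),
      (L.map f.toMonoidHom).map f.symm.toMonoidHom = L := fun f L => by
    rw [Subgroup.map_map]
    convert Subgroup.map_id L
    ext x
    simp
  have htop : ∀ {B : Type} [Group B] (f : G ≃* B), H.map f.toMonoidHom ≠ ⊤ := fun f h => hH (by
    rw [← hback f H, h, Subgroup.map_top_of_surjective _ f.symm.surjective])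
  constructor
  · intro hbin
    rcases bender hbin hone hH heven with ⟨F, iF, iF', hchar, h4, ⟨f⟩⟩ | ⟨F, iF, iF', n, hn, hF, ⟨f⟩⟩ | hsz
    · obtain ⟨n, -, hn⟩ := FiniteField.card F 2
      have h5 : Fintype.card F ≠ 5 := fun h => by
        have h2 : 2 ∣ 2 ^ (n : ℕ) := dvd_pow_self 2 n.ne_zero
        rw [← hn, h] at h2
        omega
      have ha : 2 ≤ (n : ℕ) := by
        by_contra h
        have : 2 ^ (n : ℕ) ≤ 2 ^ 1 := Nat.pow_le_pow_right two_pos (by omega)
        omega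
      obtain ⟨-, -, ⟨e2⟩⟩ := Cfsg.Lib.BenderSE.sl_equiv ha hn
      refine Or.inl ⟨⟨F, iF, iF', n, ha, hn, ⟨f.trans e2⟩⟩, ?_⟩
      have hcard : Nat.card (H.map f.toMonoidHom) = Nat.card H :=
        Subgroup.card_map_of_injective f.injective
      rcases (Cfsg.Agent.S5736.result h4 h5 _ (htop f)).1 (bin_map f rfl hbin) with h | ⟨-, P, hP⟩ | ⟨-, h3⟩
      · rw [h, Subgroup.card_bot] at hcard
        rw [← hcard] at heven
        exact absurd heven (by decide)
      · refine ⟨P.mapSurjective (f := f.symm.toMonoidHom) f.symm.surjective, ?_⟩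
        rw [← hback f H, hP]
        rfl
      · rw [← hcard, h3] at heven
        exact absurd heven (by decide)
    · haveI : Finite (Cfsg.PSU 3 F (2 ^ n)) := Finite.of_equiv _ f.toEquiv
      refine Or.inr (Or.inr ⟨⟨F, iF, iF', n, hn, hF, ⟨f⟩⟩, ?_⟩)
      have hord : ∀ s, orderOf (f.symm s) = orderOf s :=
        fun s => orderOf_injective f.symm.toMonoidHom f.symm.injective s
      have hmem : ∀ s, s ∈ H.map f.toMonoidHom ↔ f.symm s ∈ H := fun s =>
        Subgroup.mem_map_equiv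
      obtain ⟨x, hxH, hx⟩ := Cfsg.Lib.StrongEmb.exists_involution_of_even heven
      obtain ⟨P, hP⟩ := (psu_binary hn hF (H.map f.toMonoidHom)).2 (bin_map f rfl hbin) (htop f)
        (fun s t hs ht hst hsH => (hmem t).2 (mem_of_commute hbin hone (hord s ▸ hs) (hord t ▸ ht)
          (by rw [← map_mul, ← map_mul, hst]) ((hmem s).1 hsH)))
        ⟨f x, Subgroup.mem_map_of_mem _ hxH, by
          exact (orderOf_injective f.toMonoidHom f.injective x).trans hx⟩
      exact ⟨P.mapSurjective (f := f.symm.toMonoidHom) f.symm.surjective, by rw [sylCenter_map, ← hP, hback]⟩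
    · obtain ⟨F, iF, iF', m, hm, hF, ⟨f⟩⟩ := id hsz
      haveI : Finite (Cfsg.Lie.Sz F (2 ^ (m + 1))) := Finite.of_equiv _ f.toEquiv
      refine Or.inr (Or.inl ⟨hsz, ?_⟩)
      rcases (Cfsg.Agent.S5737.result m hm hF _ (htop f)).1 (bin_map f rfl hbin) with h | ⟨P, hP⟩
      · have hcard : Nat.card (H.map f.toMonoidHom) = Nat.card H := Subgroup.card_map_of_injective f.injective
        rw [h, Subgroup.card_bot] at hcard
        rw [← hcard] at heven
        exact absurd heven (by decide)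
      · refine ⟨P.mapSurjective (f := f.symm.toMonoidHom) f.symm.surjective, ?_⟩
        rw [sylCenter_map, sylCenter, ← hP, hback]
  · rintro (⟨⟨F, iF, iF', a, ha, hF, ⟨e⟩⟩, P, rfl⟩ | ⟨⟨F, iF, iF', m, hm, hF, ⟨f⟩⟩, P, rfl⟩ |
      ⟨⟨F, iF, iF', n, hn, hF, ⟨f⟩⟩, P, rfl⟩)
    · exact bin_of_sl ha hF e P
    · haveI : Finite (Cfsg.Lie.Sz F (2 ^ (m + 1))) := Finite.of_equiv _ f.toEquiv
      refine bin_map f.symm (hback f _) ?_
      exact (Cfsg.Agent.S5737.result m hm hF _ (htop f)).2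
        (Or.inr ⟨P.mapSurjective (f := f.toMonoidHom) f.surjective, (sylCenter_map f P).symm⟩)
    · haveI : Finite (Cfsg.PSU 3 F (2 ^ n)) := Finite.of_equiv _ f.toEquiv
      exact bin_map f.symm (hback f _) ((psu_binary hn hF _).1
        ⟨P.mapSurjective (f := f.toMonoidHom) f.surjective, (sylCenter_map f P).symm⟩)

end Cfsg.Lib.BinaryInv
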