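import Cfsg.Agent.Suz.Binary.Generic
import Mathlib

/-!
Binary coset actions: finite index sets, certificates of failure, a certificate of success, and transfer
along surjective homomorphisms.
-/

set_option autoImplicit false
set_option linter.style.haveILetI false

namespace Cfsg.Lib.BinaryInv

open Cfsg.Lib.Suz.Binary

variable {G : Type*} [Group G]

/-- A binary action serves every finite index set. -/
theorem bin_finite {H : Subgroup G} (hbin : Bin H) {ι : Type*} [Finite ι] (I J : ι → G ⧸ H)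
    (hp : ∀ i j, ∃ g : G, g • I i = J i ∧ g • I j = J j) : ∃ g : G, ∀ i, g • I i = J i := by
  classical
  rcases isEmpty_or_nonempty ι with h | ⟨⟨i₀⟩⟩
  · exact ⟨1, fun i => h.elim i⟩
  obtain ⟨n, ⟨e⟩⟩ := Finite.exists_equiv_fin ι
  let f : Fin (n + 2) → ι := fun k => if h : (k : ℕ) < n then e.symm ⟨k, h⟩ else i₀
  obtain ⟨g, hg⟩ := hbin (n + 2) (I ∘ f) (J ∘ f) (by omega) fun i j _ => hp (f i) (f j)
  refine ⟨g, fun i => ?_⟩
  have hk := hg ⟨(e i : ℕ), by omega⟩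
  have hf : f ⟨(e i : ℕ), by omega⟩ = i := by simp [f]
  simpa [Function.comp, hf] using hk

/-- `x` fixes each coset of the set. -/
def Fixes (H : Subgroup G) (P : Set G) (x : G) : Prop := ∀ g ∈ P, g⁻¹ * x * g ∈ H

/-- Three blocks of cosets witnessing that an action is not binary. -/
theorem not_bin_blocks [Finite G] (H : Subgroup G) (P1 P2 P3 : Set G) (a b : G) (ha : Fixes H P1 a)
    (hb : Fixes H P2 b) (hab : Fixes H P3 (a⁻¹ * b))
    (hno : ∀ d, Fixes H P1 d → Fixes H P2 d → ¬ Fixes H P3 (d⁻¹ * a)) : ¬ Bin H := by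
  intro hbin
  let I : P1 ⊕ P2 ⊕ P3 → G ⧸ H :=
    Sum.elim (fun g => ((g : G) : G ⧸ H)) (Sum.elim (fun g => ((g : G) : G ⧸ H)) fun g => ((g : G) : G ⧸ H))
  let J : P1 ⊕ P2 ⊕ P3 → G ⧸ H :=
    Sum.elim (fun g => ((g : G) : G ⧸ H)) (Sum.elim (fun g => ((g : G) : G ⧸ H)) fun g => a • ((g : G) : G ⧸ H))
  have hA : ∀ g : P1, a • ((g : G) : G ⧸ H) = ((g : G) : G ⧸ H) := fun g => (smul_mk_eq_iff H a _).2 (ha _ g.2)
  have hB : ∀ g : P2, b • ((g : G) : G ⧸ H) = ((g : G) : G ⧸ H) := fun g => (smul_mk_eq_iff H b _).2 (hb _ g.2)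
  have hC : ∀ g : P3, b • ((g : G) : G ⧸ H) = a • ((g : G) : G ⧸ H) := fun g => by
    rw [← inv_smul_eq_iff, ← mul_smul]
    exact (smul_mk_eq_iff H _ _).2 (hab _ g.2)
  obtain ⟨d, hd⟩ := bin_finite hbin I J fun i j => by
    rcases i with i | i | i <;> rcases j with j | j | j
    · exact ⟨1, one_smul _ _, one_smul _ _⟩
    · exact ⟨1, one_smul _ _, one_smul _ _⟩
    · exact ⟨a, hA i, rfl⟩
    · exact ⟨1, one_smul _ _, one_smul _ _⟩
    · exact ⟨1, one_smul _ _, one_smul _ _⟩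
    · exact ⟨b, hB i, hC j⟩
    · exact ⟨a, rfl, hA j⟩
    · exact ⟨b, hC i, hB j⟩
    · exact ⟨a, rfl, rfl⟩
  refine hno d (fun g hg => (smul_mk_eq_iff H d g).1 (hd (Sum.inl ⟨g, hg⟩)))
    (fun g hg => (smul_mk_eq_iff H d g).1 (hd (Sum.inr (Sum.inl ⟨g, hg⟩))))
    fun g hg => (smul_mk_eq_iff H _ g).1 ?_
  have h : d • (g : G ⧸ H) = a • (g : G ⧸ H) := hd (Sum.inr (Sum.inr ⟨g, hg⟩))
  rw [mul_smul, ← h, inv_smul_smul]

/-- Four cosets witnessing that an action is not binary. -/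
theorem not_bin_four' (H E : Subgroup G) (g x y l k : G)
    (hEg : ∀ e ∈ E, g⁻¹ * e * g ∈ H → e = 1) (hx : x ∈ E) (hy : y ∈ E)
    (hnorm : ∀ d ∈ H, g⁻¹ * d * g ∈ H → ∀ e ∈ E, d * e * d⁻¹ ∈ E)
    (hl : l ∈ H) (hl' : g⁻¹ * l * g ∈ H) (hk : k ∈ H) (hk' : g⁻¹ * k * g ∈ H)
    (heq : x⁻¹ * y = (l * x * l⁻¹)⁻¹ * (k * y * k⁻¹))
    (hno : ∀ d ∈ H, g⁻¹ * d * g ∈ H → d * x * d⁻¹ = l * x * l⁻¹ → d * y * d⁻¹ = k * y * k⁻¹ → False) :
    ¬ Bin H := by
  intro hbin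
  have hsm : ∀ u v : G, u • (v : G ⧸ H) = ((u * v : G) : G ⧸ H) := fun u v => rfl
  have hα : ∀ {u : G}, u ∈ H → u • ((1 : G) : G ⧸ H) = ((1 : G) : G ⧸ H) := fun {u} hu =>
    (smul_mk_eq_iff H u 1).2 (by simpa using hu)
  have hβ : ∀ {u : G}, g⁻¹ * u * g ∈ H → u • (g : G ⧸ H) = (g : G ⧸ H) := fun {u} hu =>
    (smul_mk_eq_iff H u g).2 hu
  have hmv : ∀ {u : G} (v : G), g⁻¹ * u * g ∈ H →
      u • ((v * g : G) : G ⧸ H) = ((u * v * u⁻¹ * g : G) : G ⧸ H) := fun {u} v hu => by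
    rw [← hsm (u * v * u⁻¹) g, ← hsm v g, ← mul_smul,
      show u * v = u * v * u⁻¹ * u by group, mul_smul, hβ hu]
    simp [mul_assoc]
  have hpair : ∃ u : G, u • ((x * g : G) : G ⧸ H) = ((l * x * l⁻¹ * g : G) : G ⧸ H) ∧
      u • ((y * g : G) : G ⧸ H) = ((k * y * k⁻¹ * g : G) : G ⧸ H) := by
    refine ⟨l * x * l⁻¹ * x⁻¹, ?_, ?_⟩
    · rw [hsm]
      simp [mul_assoc]
    · rw [hsm, show l * x * l⁻¹ * x⁻¹ * (y * g) = l * x * l⁻¹ * (x⁻¹ * y) * g by group, heq]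
      simp [mul_assoc]
  obtain ⟨d, hd⟩ := hbin 4
    ![((1 : G) : G ⧸ H), (g : G ⧸ H), ((x * g : G) : G ⧸ H), ((y * g : G) : G ⧸ H)]
    ![((1 : G) : G ⧸ H), (g : G ⧸ H), ((l * x * l⁻¹ * g : G) : G ⧸ H), ((k * y * k⁻¹ * g : G) : G ⧸ H)]
    (by norm_num) (fun i j hij => by
      fin_cases i <;> fin_cases j
      all_goals first
        | exact absurd rfl hij
        | exact ⟨1, one_smul _ _, one_smul _ _⟩
        | exact ⟨l, hα hl, hmv x hl'⟩
        | exact ⟨l, hmv x hl', hα hl⟩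
        | exact ⟨l, hβ hl', hmv x hl'⟩
        | exact ⟨l, hmv x hl', hβ hl'⟩
        | exact ⟨k, hα hk, hmv y hk'⟩
        | exact ⟨k, hmv y hk', hα hk⟩
        | exact ⟨k, hβ hk', hmv y hk'⟩
        | exact ⟨k, hmv y hk', hβ hk'⟩
        | exact hpair
        | exact hpair.imp fun _ h => h.symm)
  have h1 : d ∈ H := by simpa using (smul_mk_eq_iff H d 1).1 (hd 0)
  have h2 : g⁻¹ * d * g ∈ H := (smul_mk_eq_iff H d g).1 (hd 1)
  have key : ∀ v u : G, v ∈ E → u ∈ H → g⁻¹ * u * g ∈ H →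
      d • ((v * g : G) : G ⧸ H) = ((u * v * u⁻¹ * g : G) : G ⧸ H) → d * v * d⁻¹ = u * v * u⁻¹ := by
    intro v u hv hu hu' h
    rw [hmv v h2, QuotientGroup.eq] at h
    exact inv_mul_eq_one.1 (hEg _ (mul_mem (inv_mem (hnorm d h1 h2 v hv)) (hnorm u hu hu' v hv))
      (by simpa [mul_assoc] using h))
  exact hno d h1 h2 (key x l hx hl hl' (hd 2)) (key y k hy hk hk' (hd 3))

/-- Transfer along a surjective homomorphism. -/
theorem bin_comap {G' : Type*} [Group G'] (π : G →* G') (hπ : Function.Surjective π) {K : Subgroup G'}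
    (hbin : Bin K) : Bin (K.comap π) := by
  intro n I J hn hpair
  let f : G ⧸ K.comap π → G' ⧸ K :=
    Quotient.map' π (fun a b hab => by
      rw [QuotientGroup.leftRel_apply] at hab ⊢
      simpa using hab)
  have hmk : ∀ x : G, f (x : G ⧸ K.comap π) = ((π x : G') : G' ⧸ K) := fun x => rfl
  have hsm : ∀ (g : G) (p : G ⧸ K.comap π), f (g • p) = π g • f p := by
    intro g p
    obtain ⟨x, rfl⟩ := QuotientGroup.mk_surjective p
    rw [MulAction.Quotient.smul_coe, hmk, hmk, MulAction.Quotient.smul_coe, smul_eq_mul, smul_eq_mul, map_mul]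
  have hinj : Function.Injective f := fun p r h => by
    obtain ⟨x, rfl⟩ := QuotientGroup.mk_surjective p
    obtain ⟨y, rfl⟩ := QuotientGroup.mk_surjective r
    rw [hmk, hmk, QuotientGroup.eq] at h
    rw [QuotientGroup.eq, Subgroup.mem_comap, map_mul, map_inv]
    exact h
  obtain ⟨g', hg⟩ := hbin n (f ∘ I) (f ∘ J) hn fun i j hij => by
    obtain ⟨g, h1, h2⟩ := hpair i j hij
    exact ⟨π g, by simp only [Function.comp_apply, ← hsm, h1], by simp only [Function.comp_apply, ← hsm, h2]⟩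
  obtain ⟨g, rfl⟩ := hπ g'
  exact ⟨g, fun i => hinj ((hsm g (I i)).trans (hg i))⟩

/-- A subgroup of exponent two containing every involution that centralises one of its non-trivial
elements gives a binary action. -/
theorem bin_of_closed (Z : Subgroup G) (h2 : ∀ x ∈ Z, x * x = 1)
    (hcl : ∀ x ∈ Z, x ≠ 1 → ∀ y : G, y * y = 1 → x * y = y * x → y ∈ Z) : Bin Z := by
  classical
  intro n I J hn hpair
  choose c hc using fun i => QuotientGroup.mk_surjective (I i)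
  have hstab : ∀ i (x : G), x • I i = I i ↔ (c i)⁻¹ * x * c i ∈ Z := fun i x => by
    rw [← hc i]; exact smul_mk_eq_iff _ _ _
  have hsq : ∀ i (x : G), x • I i = I i → x * x = 1 := fun i x hx => by
    have h := h2 _ ((hstab i x).1 hx)
    calc x * x = c i * ((c i)⁻¹ * x * c i * ((c i)⁻¹ * x * c i)) * (c i)⁻¹ := by group
      _ = 1 := by rw [h]; group
  have hclo : ∀ i (x y : G), x ≠ 1 → x • I i = I i → y * y = 1 → x * y = y * x → y • I i = I i := by
    intro i x y hx1 hx hyy hxy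
    rw [hstab] at hx ⊢
    refine hcl _ hx (fun e => hx1 ?_) _ ?_ ?_
    · calc x = c i * ((c i)⁻¹ * x * c i) * (c i)⁻¹ := by group
        _ = 1 := by rw [e]; group
    · calc (c i)⁻¹ * y * c i * ((c i)⁻¹ * y * c i) = (c i)⁻¹ * (y * y) * c i := by group
        _ = 1 := by rw [hyy]; group
    · calc (c i)⁻¹ * x * c i * ((c i)⁻¹ * y * c i) = (c i)⁻¹ * (x * y) * c i := by group
        _ = (c i)⁻¹ * (y * x) * c i := by rw [hxy]
        _ = _ := by group
  by_cases hall : ∀ i j, ∀ x : G, x • I i = I i → x • I j = I j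
  · set o : Fin n := ⟨0, by omega⟩
    set o' : Fin n := ⟨1, by omega⟩
    obtain ⟨g, hg, hg'⟩ := hpair o o' (by simp [o, o', Fin.ext_iff])
    refine ⟨g, fun i => ?_⟩
    rcases eq_or_ne i o with rfl | hi
    · exact hg
    obtain ⟨g', hgi, hgo⟩ := hpair i o hi
    have hx := hall o i (g⁻¹ * g') (by rw [mul_smul, hgo, ← hg, inv_smul_smul])
    rw [mul_smul, inv_smul_eq_iff] at hx
    rw [← hx, hgi]
  push Not at hall
  obtain ⟨i, j, x₀, hx₀i, hx₀j⟩ := hall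
  have hij : i ≠ j := fun e => hx₀j (e ▸ hx₀i)
  have hdisj : ∀ x : G, x • I i = I i → x • I j = I j → x = 1 := by
    intro x hxi hxj
    by_contra hx1
    have h : (x⁻¹ * x₀) • I i = I i := by rw [mul_smul, hx₀i, inv_smul_eq_iff, hxi]
    have hxx₀ : x * x₀ = x₀ * x := commute_of_sq (hsq i x hxi) (hsq i x₀ hx₀i) (hsq i _ h)
    exact hx₀j (hclo j x x₀ hx1 hxj (hsq i x₀ hx₀i) hxx₀)
  obtain ⟨g, hgi, hgj⟩ := hpair i j hij
  refine ⟨g, fun k => ?_⟩
  rcases eq_or_ne k i with rfl | hki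
  · exact hgi
  rcases eq_or_ne k j with rfl | hkj
  · exact hgj
  obtain ⟨g1, h1k, h1i⟩ := hpair k i hki
  obtain ⟨g2, h2k, h2j⟩ := hpair k j hkj
  obtain ⟨x, hx⟩ : ∃ x, x = g⁻¹ * g1 := ⟨_, rfl⟩
  obtain ⟨y, hy⟩ : ∃ y, y = g⁻¹ * g2 := ⟨_, rfl⟩
  have hxi : x • I i = I i := by rw [hx, mul_smul, h1i, ← hgi, inv_smul_smul]
  have hyj : y • I j = I j := by rw [hy, mul_smul, h2j, ← hgj, inv_smul_smul]
  have hz : (x⁻¹ * y) • I k = I k := by
    rw [hx, hy, mul_inv_rev, inv_inv, mul_assoc, mul_inv_cancel_left, mul_smul, h2k, ← h1k, inv_smul_smul]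
  suffices hxk : x • I k = I k by
    rw [hx, mul_smul, inv_smul_eq_iff] at hxk
    rw [← hxk, h1k]
  by_cases hx1 : x = 1
  · rw [hx1, one_smul]
  by_cases hy1 : y = 1
  · rw [hy1, mul_one, inv_smul_eq_iff] at hz
    exact hz.symm
  exfalso
  have hcomm : x * y = y * x := commute_of_sq (hsq i x hxi) (hsq j y hyj) (hsq k _ hz)
  exact hx1 (hdisj x hxi (hclo j y x hy1 hyj (hsq i x hxi) hcomm.symm))
where
  commute_of_sq {x y : G} (hx : x * x = 1) (hy : y * y = 1) (hz : x⁻¹ * y * (x⁻¹ * y) = 1) :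
      x * y = y * x := by
    rw [inv_eq_of_mul_eq_one_right hx] at hz
    calc x * y = (x * y)⁻¹ := eq_inv_of_mul_eq_one_left hz
      _ = y * x := by rw [mul_inv_rev, inv_eq_of_mul_eq_one_right hx, inv_eq_of_mul_eq_one_right hy]

end Cfsg.Lib.BinaryInv
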