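import Cfsg.Agent.Known.PSUThree.Point
import Mathlib

/-!
Three-dimensional special unitary groups in characteristic two: elements with prescribed images of a
frame, diagonal elements, involutions.
-/

set_option autoImplicit false
set_option linter.unusedSectionVars false
set_option linter.style.haveILetI false

open scoped LinearAlgebra.Projectivization

namespace Cfsg.Lib.BinaryInv

open Cfsg.Lib.Classical Cfsg.Lib.Components.UnitaryThree Cfsg.Lib.Known.PSUThree

universe u v

variable {F : Type u} [Field F] [Finite F] [CharP F 2] {V : Type v} [AddCommGroup V] [Module F V]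
  [FiniteDimensional F V] {H : HermSpace F V}

theorem two_eq : (2 : F) = 0 := CharTwo.two_eq_zero

variable (hd : Module.finrank F V = 3)
include hd

/-- An isometry with prescribed images of a frame, and its determinant. -/
theorem exists_isom (B : Frame H) {e' w' f' : V} (he : H.h e' e' = 0) (hw : H.h w' w' = 1)
    (hf : H.h f' f' = 0) (hef : H.h e' f' = 1) (hwe : H.h w' e' = 0) (hwf : H.h w' f' = 0) :
    ∃ g : H.Isom, g.1 B.e = e' ∧ g.1 B.w = w' ∧ g.1 B.f = f' ∧
      (H.detHom g : F) = Matrix.det !![H.h e' B.f, H.h w' B.f, H.h f' B.f;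
        H.h e' B.w, H.h w' B.w, H.h f' B.w;
        H.h e' B.e, H.h w' B.e, H.h f' B.e] := by
  let C : Frame H := ⟨e', w', f', he, hf, hef, hw, hwe, hwf⟩
  let L : V →ₗ[F] V :=
    { toFun := fun x => H.h x B.f • e' + H.h x B.w • w' + H.h x B.e • f'
      map_add' := fun x y => by simp only [H.add_left, add_smul]; abel
      map_smul' := fun c x => by simp only [H.smul_left, RingHom.id_apply, smul_add, smul_smul] }
  let L' : V →ₗ[F] V :=
    { toFun := fun x => H.h x C.f • B.e + H.h x C.w • B.w + H.h x C.e • B.f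
      map_add' := fun x y => by simp only [H.add_left, add_smul]; abel
      map_smul' := fun c x => by simp only [H.smul_left, RingHom.id_apply, smul_add, smul_smul] }
  have h1 : ∀ x, L (L' x) = x := fun x => by
    conv_rhs => rw [decomp hd C x]
    simp [L, L', C, H.add_left, H.smul_left, B.ee, B.ff, B.ef, B.fe, B.ww, B.we, B.wf, B.ew, B.fw]
  have h2 : ∀ x, L' (L x) = x := fun x => by
    conv_rhs => rw [decomp hd B x]
    have := C.fe
    have := C.ew
    have := C.fw
    simp_all [L, L', C, H.add_left, H.smul_left]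
  let E : V ≃ₗ[F] V := LinearEquiv.ofLinearMap L L' (LinearMap.ext h1) (LinearMap.ext h2)
  have hE : ∀ x y, H.h (E x) (E y) = H.h x y := fun x y => by
    conv_rhs => rw [decomp hd B x, decomp hd B y]
    show H.h (L x) (L y) = _
    simp [L, H.add_left, H.add_right, H.smul_left, H.smul_right, he, hw, hf, hef, hwe, hwf,
      H.eq_zero_symm hwe, H.eq_zero_symm hwf, show H.h f' e' = 1 from C.fe, B.ee, B.ff, B.ef, B.fe, B.ww,
      B.we, B.wf, B.ew, B.fw]
  have hie : E B.e = e' := by
    show L B.e = e'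
    simp [L, B.ef, B.ew, B.ee]
  have hiw : E B.w = w' := by
    show L B.w = w'
    simp [L, B.wf, B.ww, B.we]
  have hif : E B.f = f' := by
    show L B.f = f'
    simp [L, B.ff, B.fw, B.fe]
  refine ⟨⟨E, hE⟩, hie, hiw, hif, ?_⟩
  show ((LinearEquiv.det E : Fˣ) : F) = _
  rw [LinearEquiv.coe_det, det_frame hd B]
  simp only [LinearEquiv.coe_coe, hie, hiw, hif]

/-- An element of the special group with prescribed images of a frame. -/
theorem exists_elt (B : Frame H) {e' w' f' : V} (he : H.h e' e' = 0) (hw : H.h w' w' = 1)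
    (hf : H.h f' f' = 0) (hef : H.h e' f' = 1) (hwe : H.h w' e' = 0) (hwf : H.h w' f' = 0)
    (hdet : Matrix.det !![H.h e' B.f, H.h w' B.f, H.h f' B.f;
      H.h e' B.w, H.h w' B.w, H.h f' B.w;
      H.h e' B.e, H.h w' B.e, H.h f' B.e] = 1) :
    ∃ g : H.SIsom, g.1.1 B.e = e' ∧ g.1.1 B.w = w' ∧ g.1.1 B.f = f' := by
  obtain ⟨g, h1, h2, h3, h4⟩ := exists_isom hd B he hw hf hef hwe hwf
  exact ⟨⟨g, MonoidHom.mem_ker.2 (Units.ext (h4.trans hdet))⟩, h1, h2, h3⟩

/-- The frame with the hyperbolic pair interchanged. -/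
def swapFrame (B : Frame H) : Frame H := ⟨B.f, B.w, B.e, B.ff, B.ee, B.fe, B.ww, B.wf, B.we⟩

/-- An element interchanging the hyperbolic pair. -/
theorem exists_swap (B : Frame H) :
    ∃ s : H.SIsom, s.1.1 B.e = B.f ∧ s.1.1 B.w = B.w ∧ s.1.1 B.f = B.e :=
  exists_elt hd B B.ff B.ww B.ee B.fe B.wf B.we (by
    simp [Matrix.det_fin_three, B.ee, B.ff, B.ef, B.fe, B.ww, B.we, B.wf, B.ew, B.fw, CharTwo.neg_eq])

theorem exists_tor (B : Frame H) (a : Fˣ) :
    ∃ g : H.SIsom, g.1.1 B.e = (a : F) • B.e ∧ g.1.1 B.w = (H.σ a / a) • B.w ∧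
      g.1.1 B.f = (H.σ a)⁻¹ • B.f := by
  have ha : (a : F) ≠ 0 := a.ne_zero
  have hσa : H.σ (a : F) ≠ 0 := (map_ne_zero _).2 ha
  refine exists_elt hd B ?_ ?_ ?_ ?_ ?_ ?_ ?_
  all_goals simp only [Matrix.det_fin_three, H.smul_left, H.smul_right, map_div₀, map_inv₀, H.conj.invol,
    Matrix.cons_val', Matrix.cons_val_zero, Matrix.cons_val_one, Matrix.cons_val_two,
    Matrix.empty_val', Matrix.cons_val_fin_one, Matrix.head_cons, Matrix.tail_cons, Matrix.of_apply,
    B.ee, B.ff, B.ef, B.fe, B.ww, B.we, B.wf, B.ew, B.fw, mul_zero, mul_one, zero_mul, add_zero, sub_zero]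
  all_goals simp [Matrix.vecHead, ha, hσa]
  all_goals field_simp

/-- The diagonal element with a prescribed eigenvalue. -/
noncomputable def tor (B : Frame H) (a : Fˣ) : H.SIsom := (exists_tor hd B a).choose

theorem tor_e (B : Frame H) (a : Fˣ) : (tor hd B a).1.1 B.e = (a : F) • B.e :=
  (exists_tor hd B a).choose_spec.1

theorem tor_w (B : Frame H) (a : Fˣ) : (tor hd B a).1.1 B.w = (H.σ a / a) • B.w :=
  (exists_tor hd B a).choose_spec.2.1

theorem tor_f (B : Frame H) (a : Fˣ) : (tor hd B a).1.1 B.f = (H.σ a)⁻¹ • B.f :=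
  (exists_tor hd B a).choose_spec.2.2

theorem tor_mem (B : Frame H) (a : Fˣ) : tor hd B a ∈ stE B := mem_stE.2 ⟨_, tor_e hd B a⟩

theorem ea_tor (B : Frame H) (a : Fˣ) : ea B (tor hd B a) = a := by
  rw [ea, tor_e, H.smul_left, B.ef, mul_one]

theorem ed_tor (B : Frame H) (a : Fˣ) : ed B (tor hd B a) = H.σ a / a := by
  rw [ed, tor_w, H.smul_left, B.ww, mul_one]

theorem tor_mul (B : Frame H) (a b : Fˣ) : tor hd B (a * b) = tor hd B a * tor hd B b := by
  refine ext_lin hd B ?_ ?_ ?_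
  · rw [H.smul_mul_apply, tor_e, tor_e, map_smul, tor_e, smul_smul, Units.val_mul, mul_comm]
  · rw [H.smul_mul_apply, tor_w, tor_w, map_smul, tor_w, smul_smul, Units.val_mul, map_mul]
    congr 1
    field_simp
  · rw [H.smul_mul_apply, tor_f, tor_f, map_smul, tor_f, smul_smul, Units.val_mul, map_mul, mul_inv]
    congr 1
    ring

/-- The diagonal elements as a homomorphism. -/
noncomputable def torHom (B : Frame H) : Fˣ →* H.SIsom :=
  MonoidHom.mk' (tor hd B) (tor_mul hd B)

theorem torHom_apply (B : Frame H) (a : Fˣ) : torHom hd B a = tor hd B a := rfl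

theorem tor_comm (B : Frame H) (a b : Fˣ) : tor hd B a * tor hd B b = tor hd B b * tor hd B a := by
  rw [← tor_mul, ← tor_mul, mul_comm]

theorem tor_inv (B : Frame H) (a : Fˣ) : tor hd B a⁻¹ = (tor hd B a)⁻¹ := map_inv (torHom hd B) a

/-- An element fixing both points of the hyperbolic pair is diagonal. -/
theorem eq_tor {B : Frame H} {g : H.SIsom} (hg : g ∈ stE B) {n : F} (hf : g.1.1 B.f = n • B.f) :
    g = tor hd B (Units.mk0 (ea B g) (coords hd B hg).2.1) := by
  obtain ⟨he, ha0, hw, -⟩ := coords hd B hg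
  have hn : n = en B g := by rw [en, hf, H.smul_left, B.fe, mul_one]
  obtain ⟨r1, -⟩ := relations hd B hg
  have hn' : n = (H.σ (ea B g))⁻¹ := by
    have h := congrArg H.σ r1
    rw [map_mul, H.conj.invol, map_one] at h
    rw [hn]
    exact eq_inv_of_mul_eq_one_right h
  have hb : eb B g = 0 := by
    have h := H.map_form g.1 B.w B.f
    rw [B.wf, hw, hf, H.smul_right, H.add_left, H.smul_left, H.smul_left, B.ef, B.wf, mul_zero, add_zero,
      mul_one] at h
    exact (mul_eq_zero.1 h).resolve_left (by rw [hn']; simp [ha0])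
  refine ext_lin hd B ?_ ?_ ?_
  · rw [tor_e]; exact he
  · rw [tor_w]
    simp only [Units.val_mk0]
    refine hw.trans ?_
    rw [hb, zero_smul, zero_add]
    congr 1
    show ed B g = H.σ (ea B g) / ea B g
    rw [eq_div_iff ha0, ed_mul_ea hd B hg]
  · rw [tor_f]
    refine hf.trans ?_
    rw [hn']; rfl

theorem tor_central (B : Frame H) {a : Fˣ} (h3 : (a : F) ^ 3 = 1) (hN : (a : F) * H.σ a = 1) :
    tor hd B a ∈ Subgroup.center H.SIsom := by
  have hinv : (H.σ (a : F))⁻¹ = (a : F) := inv_eq_of_mul_eq_one_left hN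
  have hd' : H.σ (a : F) / a = (a : F) := by
    rw [div_eq_iff a.ne_zero]
    linear_combination (H.σ (a : F)) * (-h3) + (a : F) ^ 2 * hN
  have hs : ∀ x, (tor hd B a).1.1 x = (a : F) • x := fun x => by
    conv_lhs => rw [decomp hd B x]
    conv_rhs => rw [decomp hd B x]
    simp only [map_add, map_smul, tor_e, tor_w, tor_f, hinv, hd', smul_add, smul_comm (a : F)]
  exact Subgroup.mem_center_iff.2 fun g => H.sisom_ext fun x => by
    rw [H.smul_mul_apply, H.smul_mul_apply, hs, hs, map_smul]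

/-- The element of `fixE` moving the last vector to a prescribed isotropic one. -/
theorem exists_unip (B : Frame H) {x : V} (hxx : H.h x x = 0) (hxe : H.h x B.e = 1) :
    ∃ u ∈ fixE B, u.1.1 B.f = x ∧ eb B u = H.σ (H.h x B.w) := by
  have hex : H.h B.e x = 1 := by rw [H.symm, hxe, map_one]
  have hwx : H.h B.w x = H.σ (H.h x B.w) := H.symm _ _
  obtain ⟨g, h1, h2, h3⟩ := exists_elt hd B (e' := B.e) (w' := B.w + H.σ (H.h x B.w) • B.e) (f' := x)
    B.ee (by simp [H.add_left, H.add_right, H.smul_left, H.smul_right, B.ww, B.we, B.ew, B.ee]) hxx hex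
    (by simp [H.add_left, H.smul_left, B.we, B.ee])
    (by rw [H.add_left, H.smul_left, hwx, hex, mul_one, CharTwo.add_self_eq_zero])
    (by simp [Matrix.det_fin_three, H.add_left, H.smul_left, B.ee, B.ef, B.ew, B.ww, B.we, B.wf, hxe])
  refine ⟨g, h1, h3, ?_⟩
  rw [eb, h2, H.add_left, H.smul_left, B.wf, B.ef, zero_add, mul_one]

/-- `fixE` is transitive on isotropic vectors with a given product with the first vector. -/
theorem exists_fixE_map (B : Frame H) {x y : V} (hxx : H.h x x = 0) (hyy : H.h y y = 0)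
    (hxy : H.h x B.e = H.h y B.e) (h0 : H.h y B.e ≠ 0) : ∃ u ∈ fixE B, u.1.1 x = y := by
  set c := H.h y B.e with hc
  have hs : ∀ {z : V}, H.h z z = 0 → H.h (c⁻¹ • z) (c⁻¹ • z) = 0 := fun hz => by
    rw [H.smul_left, H.smul_right, hz, mul_zero, mul_zero]
  obtain ⟨u₁, hu₁, e₁, -⟩ := exists_unip hd B (hs hxx) (by rw [H.smul_left, hxy, inv_mul_cancel₀ h0])
  obtain ⟨u₂, hu₂, e₂, -⟩ := exists_unip hd B (hs hyy) (by rw [H.smul_left, ← hc, inv_mul_cancel₀ h0])
  refine ⟨u₂ * u₁⁻¹, mul_mem hu₂ (inv_mem hu₁), ?_⟩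
  have hi : (u₁⁻¹).1.1 (c⁻¹ • x) = B.f := by rw [← e₁]; exact H.inv_apply_self u₁.1 _
  conv_lhs => rw [← one_smul F x, ← mul_inv_cancel₀ h0, mul_smul]
  rw [map_smul, H.smul_mul_apply, hi, e₂, smul_smul, mul_inv_cancel₀ h0, one_smul]

/-- An element of `fixE` with a prescribed middle coefficient. -/
theorem exists_fixE_eb (B : Frame H) (b : F) : ∃ u ∈ fixE B, eb B u = b := by
  obtain ⟨θ, hθ⟩ := H.conj.exists_trace_one
  obtain ⟨u, hu, -, hb⟩ := exists_unip hd B (x := (θ * (b * H.σ b)) • B.e + H.σ b • B.w + B.f)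
    (by
      simp [H.add_left, H.add_right, H.smul_left, H.smul_right, B.ee, B.ff, B.ef, B.fe, B.ww, B.we, B.wf,
        B.ew, B.fw, H.conj.invol, map_mul]
      linear_combination (b * H.σ b) * hθ + (b * H.σ b) * two_eq (F := F))
    (by simp [H.add_left, H.smul_left, B.ee, B.fe, B.we])
  refine ⟨u, hu, ?_⟩
  rw [hb]
  simp [H.add_left, H.smul_left, B.ew, B.fw, B.ww, H.conj.invol]

theorem exists_root (B : Frame H) {c : F} (hc : H.σ c = c) :
    ∃ r ∈ H.rootGroup B.ee, r ∈ fixE B ∧ eb B r = 0 ∧ ec B r = c ∧ r.1.1 B.w = B.w ∧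
      r.1.1 B.f = c • B.e + B.f := by
  have hc' : c + H.σ c = 0 := by rw [hc, CharTwo.add_self_eq_zero]
  have hmem : H.sT B.ee hc' ∈ H.rootGroup B.ee := ⟨c, hc', rfl⟩
  refine ⟨_, hmem, (root_le_fixE B).1 hmem, (root_le_fixE B).2 _ hmem, ?_, ?_, ?_⟩
  · rw [ec, H.sT_apply, H.add_left, H.smul_left, B.ff, B.fe, B.ef]
    ring
  · rw [H.sT_apply, B.we, mul_zero, zero_smul, add_zero]
  · rw [H.sT_apply, B.fe, mul_one, add_comm]

/-- An involution lies in a root group. -/
theorem exists_root_of_invol {t : H.SIsom} (ht : t * t = 1) (h1 : t ≠ 1) :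
    ∃ B : Frame H, t ∈ H.rootGroup B.ee := by
  obtain ⟨y, hy⟩ : ∃ y, t.1.1 y ≠ y := by
    by_contra! h
    exact h1 (H.sisom_ext fun x => h x)
  have htt : ∀ x, t.1.1 (t.1.1 x) = x := fun x => by
    rw [← H.smul_mul_apply, ht]; rfl
  set v := t.1.1 y + y with hv
  have hv0 : v ≠ 0 := fun e => hy (by
    rw [eq_neg_of_add_eq_zero_left e, ← neg_one_smul F, CharTwo.neg_eq, one_smul])
  have hsym : H.h (t.1.1 y) y = H.h y (t.1.1 y) := by
    conv_lhs => rw [← H.map_form t.1, htt]
  have hvv : H.h v v = 0 := by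
    rw [hv, H.add_left, H.add_right, H.add_right, H.map_form, hsym]
    linear_combination (H.h y y + H.h y (t.1.1 y)) * two_eq (F := F)
  have hfix : t.1.1 v = v := by rw [hv, map_add, htt, add_comm]
  obtain ⟨B, hB⟩ := exists_frame hd hv0 hvv
  have hmem : t ∈ fixE B := by
    show t.1.1 B.e = B.e
    rw [hB, hfix]
  refine ⟨B, mem_root_of_eb hd B hmem ?_⟩
  have h := (eb_mul hd B hmem hmem).2
  rw [ht, (eb_one B).2] at h
  have h' : eb B t * H.σ (eb B t) = 0 := by linear_combination h + ec B t * two_eq (F := F)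
  rcases mul_eq_zero.1 h' with e | e
  · exact e
  · exact H.conj.eq_zero.1 e

/-- An involution centralising a non-trivial root element lies in the same root group. -/
theorem root_of_commute {B : Frame H} {r t : H.SIsom} (hr : r ∈ H.rootGroup B.ee) (hr1 : r ≠ 1)
    (ht : t * t = 1) (hrt : r * t = t * r) : t ∈ H.rootGroup B.ee := by
  rcases eq_or_ne t 1 with rfl | ht1
  · exact one_mem _
  obtain ⟨C, hC⟩ := exists_root_of_invol hd ht ht1
  have htC := (root_le_fixE C).1 hC
  have h1 : t • (r • pt C) = r • pt C := by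
    rw [← mul_smul, ← hrt, mul_smul, show t • pt C = pt C from fixE_le_stE C htC]
  rw [root_congr (fix_pt hd B ((root_le_fixE B).1 hr) hr1 (fix_pt hd C htC ht1 h1)).symm]
  exact hC

end Cfsg.Lib.BinaryInv
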