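import Cfsg.Agent.BinaryInv.Tools
import Cfsg.Agent.BinaryInv.UBasic
import Cfsg.Agent.Known.PSUThree.Orbit
import Mathlib

/-!
Coefficients of unipotent and diagonal elements, and the change of frame making an element diagonal.
-/

set_option autoImplicit false
set_option linter.unusedSectionVars false
set_option linter.style.haveILetI false

open scoped LinearAlgebra.Projectivization

namespace Cfsg.Lib.BinaryInv

open Cfsg.Lib.Classical Cfsg.Lib.Components.UnitaryThree Cfsg.Lib.Known.PSUThree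

universe u v

variable {F : Type u} [Field F] [Finite F] [CharP F 2] {V : Type v} [AddCommGroup V] [Module F V]
  [FiniteDimensional F V] {H : HermSpace F V} (hd : Module.finrank F V = 3)

include hd

theorem eb_inv {B : Frame H} {u : H.SIsom} (hu : u ∈ fixE B) : eb B u⁻¹ = eb B u := by
  have h := (eb_mul hd B hu (inv_mem hu)).1
  rw [mul_inv_cancel, (eb_one B).1] at h
  exact ((eq_neg_of_add_eq_zero_left h.symm).trans (CharTwo.neg_eq _)).symm

theorem eb_prod {B : Frame H} {u v : H.SIsom} (hu : u ∈ fixE B) (hv : v ∈ fixE B) :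
    eb B (u * v) = eb B u + eb B v := (eb_mul hd B hu hv).1

/-- Elements of `fixE` agreeing in the middle coefficient differ by a root element. -/
theorem root_of_eb_eq {B : Frame H} {u v : H.SIsom} (hu : u ∈ fixE B) (hv : v ∈ fixE B)
    (h : eb B u = eb B v) : u⁻¹ * v ∈ H.rootGroup B.ee :=
  mem_root_of_eb hd B (mul_mem (inv_mem hu) hv)
    (by rw [eb_prod hd (inv_mem hu) hv, eb_inv hd hu, h, CharTwo.add_self_eq_zero])

/-- The multiplier of the middle coefficient. -/
noncomputable def ch (H : HermSpace F V) (c : Fˣ) : F := (c : F) ^ 2 / H.σ c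

theorem ch_ne (c : Fˣ) : ch H c ≠ 0 :=
  div_ne_zero (pow_ne_zero _ c.ne_zero) ((map_ne_zero _).2 c.ne_zero)

theorem ch_mul (c c' : Fˣ) : ch H (c * c') = ch H c * ch H c' := by
  simp only [ch, Units.val_mul, map_mul]
  ring

theorem conj_tor {B : Frame H} (c : Fˣ) {u : H.SIsom} (hu : u ∈ fixE B) :
    tor hd B c * u * (tor hd B c)⁻¹ ∈ fixE B ∧
      eb B (tor hd B c * u * (tor hd B c)⁻¹) = ch H c * eb B u := by
  refine ⟨conj_mem_fixE hd B (tor_mem hd B c) hu, ?_⟩
  have h := conj_eb hd B (tor_mem hd B c) hu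
  rw [ed_tor, ea_tor] at h
  have hσ : H.σ (c : F) ≠ 0 := (map_ne_zero _).2 c.ne_zero
  rw [ch]
  field_simp
  field_simp at h
  linear_combination h

theorem conj_tor' {B : Frame H} (c : Fˣ) {u : H.SIsom} (hu : u ∈ fixE B) :
    (tor hd B c)⁻¹ * u * tor hd B c ∈ fixE B ∧
      eb B ((tor hd B c)⁻¹ * u * tor hd B c) = eb B u / ch H c := by
  have h := conj_tor hd (B := B) c⁻¹ hu
  rw [tor_inv, inv_inv] at h
  refine ⟨h.1, ?_⟩
  rw [h.2, ch, ch]
  simp only [Units.val_inv_eq_inv_val, map_inv₀]
  have hσ : H.σ (c : F) ≠ 0 := (map_ne_zero _).2 c.ne_zero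
  have hc : (c : F) ≠ 0 := c.ne_zero
  field_simp

/-- The eigenvalue on the point, as a unit. -/
noncomputable def eaU {B : Frame H} {g : H.SIsom} (hg : g ∈ stE B) : Fˣ :=
  Units.mk0 (ea B g) (coords hd B hg).2.1

theorem split_mem {B : Frame H} {g : H.SIsom} (hg : g ∈ stE B) :
    g * (tor hd B (eaU hd hg))⁻¹ ∈ fixE B := by
  show (g * (tor hd B (eaU hd hg))⁻¹).1.1 B.e = B.e
  rw [← tor_inv, H.smul_mul_apply, tor_e, map_smul, (coords hd B hg).1, smul_smul, Units.val_inv_eq_inv_val]
  simp [eaU, (coords hd B hg).2.1]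

theorem eaU_tor (B : Frame H) (c : Fˣ) : eaU hd (tor_mem hd B c) = c :=
  Units.ext (ea_tor hd B c)

/-- A frame with a given last vector and the same first one. -/
theorem exists_reframe (B : Frame H) {x : V} (hxx : H.h x x = 0) (hxe : H.h x B.e = 1) :
    ∃ C : Frame H, C.e = B.e ∧ C.f = x := by
  obtain ⟨u, hu, hux, -⟩ := exists_unip hd B hxx hxe
  exact ⟨mapFrame u B, hu, hux⟩

/-- An element whose eigenvalue on the point has norm different from one is diagonal in some frame. -/
theorem exists_diag_frame {B : Frame H} {m : H.SIsom} (hm : m ∈ stE B)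
    (hN : ea B m * H.σ (ea B m) ≠ 1) :
    ∃ C : Frame H, C.e = B.e ∧ m = tor hd C (eaU hd hm) := by
  obtain ⟨he, ha0, hw, hf⟩ := coords hd B hm
  obtain ⟨r1, r2, -⟩ := relations hd B hm
  set a := ea B m
  set d := ed B m with hdd
  set n := en B m
  set b := eb B m
  set c := ec B m
  set μ := em B m
  have hn : n ≠ 0 := fun e => by rw [e, map_zero, mul_zero] at r1; exact zero_ne_one r1
  have r1' : H.σ a * n = 1 := by
    have h := congrArg H.σ r1
    rwa [map_mul, H.conj.invol, map_one] at h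
  have hnd : n - d ≠ 0 := fun e => hN (by
    rw [sub_eq_zero.1 e] at r1 r1'
    linear_combination (-(a * H.σ a)) * r2 + (H.σ a * d) * r1 + r1')
  have hna : n - a ≠ 0 := fun e => hN (by
    rw [sub_eq_zero.1 e] at r1
    exact r1)
  obtain ⟨β, hβ⟩ : ∃ β, β * (n - d) = μ := ⟨_, div_mul_cancel₀ μ hnd⟩
  obtain ⟨α, hα⟩ : ∃ α, α * (n - a) = c + β * b := ⟨_, div_mul_cancel₀ _ hna⟩
  set x := α • B.e + β • B.w + B.f with hx
  have hxe : H.h x B.e = 1 := by simp [hx, H.add_left, H.smul_left, B.ee, B.we, B.fe]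
  have hmx : m.1.1 x = n • x := by
    rw [hx, map_add, map_add, map_smul, map_smul, he, hw, hf]
    match_scalars
    · linear_combination (-1 : F) * hα
    · linear_combination (-1 : F) * hβ
    · ring
  have hxx : H.h x x = 0 := by
    have h := H.map_form m.1 x x
    rw [hmx, H.smul_left, H.smul_right] at h
    have h' : (n * H.σ n - 1) * H.h x x = 0 := by linear_combination h
    refine (mul_eq_zero.1 h').resolve_left fun e => hN ?_
    linear_combination (-(a * H.σ a)) * e + (n * H.σ a) * r1 + r1'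
  obtain ⟨C, hCe, hCf⟩ := exists_reframe hd B hxx hxe
  have hmC : m ∈ stE C := mem_stE.2 ⟨a, by rw [hCe]; exact he⟩
  refine ⟨C, hCe, (eq_tor hd hmC (n := n) (by rw [hCf]; exact hmx)).trans ?_⟩
  congr 1
  refine Units.ext ?_
  show ea C m = ea B m
  exact ea_congr (pt_eq_iff.2 ⟨1, one_ne_zero, by rw [hCe, one_smul]⟩) hmC

/-- An element whose eigenvalue on the point has norm one and is no cube root of unity is, up to a root
element, diagonal in some frame. -/
theorem exists_diag_frame' {B : Frame H} {m : H.SIsom} (hm : m ∈ stE B)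
    (hN : ea B m * H.σ (ea B m) = 1) (h3 : ea B m ^ 3 ≠ 1) :
    ∃ C : Frame H, C.e = B.e ∧ ∃ r ∈ H.rootGroup B.ee, r * m = tor hd C (eaU hd hm) := by
  obtain ⟨he, ha0, hw, hf⟩ := coords hd B hm
  obtain ⟨r1, -, r3, -⟩ := relations hd B hm
  obtain ⟨θ, hθ⟩ := H.conj.exists_trace_one
  set a := ea B m
  set d := ed B m
  set n := en B m
  set b := eb B m
  set c := ec B m
  set μ := em B m
  have hna : n = a := by
    have h := congrArg H.σ r1
    rw [map_mul, H.conj.invol, map_one] at h
    linear_combination (-n) * hN + a * h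
  rw [hna] at r3 hf
  have hnd : a - d ≠ 0 := fun e => h3 (by
    rw [← sub_eq_zero.1 e] at r3
    linear_combination r3)
  obtain ⟨β, hβ⟩ : ∃ β, β * (a - d) = μ := ⟨_, div_mul_cancel₀ μ hnd⟩
  set x := (θ * (β * H.σ β)) • B.e + β • B.w + B.f with hx
  have hxe : H.h x B.e = 1 := by simp [hx, H.add_left, H.smul_left, B.ee, B.we, B.fe]
  have hex : H.h B.e x = 1 := by rw [H.symm, hxe, map_one]
  have hxx : H.h x x = 0 := by
    simp [hx, H.add_left, H.add_right, H.smul_left, H.smul_right, B.ee, B.ff, B.ef, B.fe, B.ww, B.we, B.wf,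
      B.ew, B.fw, H.conj.invol, map_mul]
    linear_combination (β * H.σ β) * hθ + (β * H.σ β) * two_eq (F := F)
  set s := c + β * b with hs
  have hmx : m.1.1 x = a • x + s • B.e := by
    rw [hx, map_add, map_add, map_smul, map_smul, he, hw, hf]
    match_scalars
    · rw [hs]; ring
    · linear_combination (-1 : F) * hβ
    · ring
  have hskew : H.σ (s / a) = s / a := by
    have h := H.map_form m.1 x x
    rw [hmx, H.add_left, H.add_right, H.add_right] at h
    simp only [H.smul_left, H.smul_right, hxx, hxe, hex, B.ee, mul_zero, mul_one, zero_add, add_zero] at h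
    have hσa : H.σ a ≠ 0 := (map_ne_zero _).2 ha0
    rw [map_div₀, div_eq_div_iff hσa ha0]
    linear_combination h - (s * H.σ a) * two_eq (F := F)
  obtain ⟨r, hrR, hrfix, -, -, hrw, hrf⟩ := exists_root hd B hskew
  have hre : r.1.1 B.e = B.e := hrfix
  have hrx : r.1.1 x = x + (s / a) • B.e := by
    rw [hx, map_add, map_add, map_smul, map_smul, hre, hrw, hrf]
    module
  obtain ⟨C, hCe, hCf⟩ := exists_reframe hd B hxx hxe
  have hmC : r * m ∈ stE C := mem_stE.2 ⟨a, by rw [hCe, H.smul_mul_apply, he, map_smul, hre]⟩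
  refine ⟨C, hCe, r, hrR, (eq_tor hd hmC (n := a) ?_).trans ?_⟩
  · rw [hCf, H.smul_mul_apply, hmx, map_add, map_smul, map_smul, hre, hrx, smul_add, add_assoc, smul_smul,
      mul_div_cancel₀ _ ha0, ← add_smul, CharTwo.add_self_eq_zero, zero_smul, add_zero]
  · congr 1
    refine Units.ext ?_
    show H.h ((r * m).1.1 C.e) C.f = ea B m
    rw [hCe, hCf, H.smul_mul_apply, he, map_smul, hre, H.smul_left, hex, mul_one]

end Cfsg.Lib.BinaryInv
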