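import Cfsg.Agent.BinaryInv.UBorel
import Mathlib

/-!
An intermediate group of unipotent elements gives three blocks refuting binarity; the conclusion for
subgroups of the stabiliser of a point.
-/

set_option autoImplicit false
set_option linter.unusedSectionVars false
set_option linter.style.haveILetI false

open scoped LinearAlgebra.Projectivization

namespace Cfsg.Lib.BinaryInv

open Cfsg.Lib.Classical Cfsg.Lib.Components.UnitaryThree Cfsg.Lib.Known.PSUThree Cfsg.Lib.Suz.Binary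

universe u v

variable {F : Type u} [Field F] [Finite F] [CharP F 2] {V : Type v} [AddCommGroup V] [Module F V]
  [FiniteDimensional F V] {H : HermSpace F V}

/-- The middle coefficients of the unipotent elements of the subgroup. -/
def midSet (K : Subgroup H.SIsom) (B : Frame H) : Set F := {b | ∃ u ∈ K, u ∈ fixE B ∧ eb B u = b}

/-- The middle coefficients common to a family of conjugates. -/
def capSet (K : Subgroup H.SIsom) (B : Frame H) (I : Finset Fˣ) : Set F :=
  {b | ∀ c ∈ I, b / ch H c ∈ midSet K B}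

variable (hd : Module.finrank F V = 3) {K : Subgroup H.SIsom} {B : Frame H}
  (hR : H.rootGroup B.ee ≤ K) (hst : K ≤ stE B)
  (hsplit : ∀ g : H.SIsom, g ∈ K → ∀ hg : g ∈ stE B, tor hd B (eaU hd hg) ∈ K)

include hd

theorem midSet_add {a b : F} (ha : a ∈ midSet K B) (hb : b ∈ midSet K B) : a + b ∈ midSet K B := by
  obtain ⟨u, hu, hu', rfl⟩ := ha
  obtain ⟨v, hv, hv', rfl⟩ := hb
  exact ⟨u * v, mul_mem hu hv, mul_mem hu' hv', eb_prod hd hu' hv'⟩

theorem capSet_add {I : Finset Fˣ} {a b : F} (ha : a ∈ capSet K B I) (hb : b ∈ capSet K B I) :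
    a + b ∈ capSet K B I := fun c hc => by
  rw [add_div]
  exact midSet_add hd (ha c hc) (hb c hc)

theorem capSet_smul [DecidableEq Fˣ] (I : Finset Fˣ) (c : Fˣ) (b : F) :
    b ∈ capSet K B (I.image (c * ·)) ↔ b / ch H c ∈ capSet K B I := by
  constructor
  · intro h i hi
    have h1 := h (c * i) (Finset.mem_image_of_mem _ hi)
    rwa [ch_mul hd, ← div_div] at h1
  · intro h j hj
    obtain ⟨i, hi, rfl⟩ := Finset.mem_image.1 hj
    rw [ch_mul hd, ← div_div]
    exact h i hi

include hR in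
theorem mem_of_mid {u : H.SIsom} (hu : u ∈ fixE B) (h : eb B u ∈ midSet K B) : u ∈ K := by
  obtain ⟨v, hv, hv', he⟩ := h
  have h1 := mul_mem hv (hR (root_of_eb_eq hd hv' hu he))
  rwa [mul_inv_cancel_left] at h1

include hR in
theorem fixes_unip {I : Finset Fˣ} {u : H.SIsom} (hu : u ∈ fixE B) :
    Fixes K (tor hd B '' (I : Set Fˣ)) u ↔ eb B u ∈ capSet K B I := by
  constructor
  · intro h c hc
    exact ⟨_, h _ ⟨c, hc, rfl⟩, (conj_tor' hd c hu).1, (conj_tor' hd c hu).2⟩
  · rintro h _ ⟨c, hc, rfl⟩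
    refine mem_of_mid hd hR (conj_tor' hd c hu).1 ?_
    rw [(conj_tor' hd c hu).2]
    exact h c hc

include hR hst hsplit in
theorem not_bin_block (I : Finset Fˣ) (hI : (1 : Fˣ) ∈ I) (c₂ c₃ : Fˣ) {x y : F} (hx : x ∈ capSet K B I)
    (hy : y / ch H c₂ ∈ capSet K B I) (hxy : (x + y) / ch H c₃ ∈ capSet K B I)
    (hnx : x / ch H c₃ ∉ capSet K B I)
    (hcap : ∀ b ∈ capSet K B I, b / ch H c₂ ∈ capSet K B I → b = 0) : ¬ Bin K := by
  classical
  obtain ⟨u, hu, hub⟩ := exists_fixE_eb hd B x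
  obtain ⟨v, hv, hvb⟩ := exists_fixE_eb hd B y
  refine not_bin_blocks K (tor hd B '' (I : Set Fˣ)) (tor hd B '' (I.image (c₂ * ·) : Set Fˣ))
    (tor hd B '' (I.image (c₃ * ·) : Set Fˣ)) u v ?_ ?_ ?_ ?_
  · rw [fixes_unip hd hR hu, hub]
    exact hx
  · rw [fixes_unip hd hR hv, hvb, capSet_smul hd]
    exact hy
  · rw [fixes_unip hd hR (mul_mem (inv_mem hu) hv), capSet_smul hd,
      eb_prod hd (inv_mem hu) hv, eb_inv hd hu, hub, hvb]
    exact hxy
  · intro d h1 h2 h3
    have hd1 : (tor hd B 1)⁻¹ * d * tor hd B 1 ∈ K := h1 _ ⟨1, hI, rfl⟩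
    rw [← torHom_apply, map_one, inv_one, one_mul, mul_one] at hd1
    set t := tor hd B (eaU hd (hst hd1)) with ht
    have htK : t ∈ K := hsplit d hd1 (hst hd1)
    have hfix : ∀ {P : Finset Fˣ} {g : H.SIsom}, Fixes K (tor hd B '' (P : Set Fˣ)) g →
        Fixes K (tor hd B '' (P : Set Fˣ)) (g * t⁻¹) := by
      rintro P g hg _ ⟨c, hc, rfl⟩
      have h := mul_mem (hg _ ⟨c, hc, rfl⟩) (inv_mem htK)
      rwa [show (tor hd B c)⁻¹ * g * tor hd B c * t⁻¹ = (tor hd B c)⁻¹ * (g * t⁻¹) * tor hd B c by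
        rw [ht, ← tor_inv hd B (eaU hd (hst hd1)), mul_assoc _ (tor hd B c), tor_comm]; group] at h
    have hr := split_mem hd (hst hd1)
    rw [← ht] at hr
    have hb1 := (fixes_unip hd hR hr).1 (hfix h1)
    have hb2 := (fixes_unip hd hR hr).1 (hfix h2)
    rw [capSet_smul hd] at hb2
    have hz := hcap _ hb1 hb2
    refine hnx ((capSet_smul hd I c₃ x).1 ?_)
    rw [← hub]
    refine (fixes_unip hd hR hu).1 fun g hg => ?_
    obtain ⟨c, hc, rfl⟩ := hg
    have hrK : (tor hd B c)⁻¹ * d * tor hd B c ∈ K := by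
      have h := mul_mem (mem_of_mid hd hR (conj_tor' hd c hr).1 (by
        rw [(conj_tor' hd c hr).2, hz, zero_div]
        exact ⟨1, one_mem _, one_mem _, (eb_one B).1⟩)) htK
      rwa [show (tor hd B c)⁻¹ * (d * t⁻¹) * tor hd B c * t = (tor hd B c)⁻¹ * d * tor hd B c by
        rw [ht, mul_assoc _ (tor hd B c), tor_comm]; group] at h
    have h := mul_mem hrK (h3 _ ⟨c, hc, rfl⟩)
    rwa [show (tor hd B c)⁻¹ * d * tor hd B c * ((tor hd B c)⁻¹ * (d⁻¹ * u) * tor hd B c) =
      (tor hd B c)⁻¹ * u * tor hd B c by group] at h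

variable (hσ : ∀ x, H.σ x = x ^ H.q) (hq : 4 ≤ H.q)

omit [CharP F 2] in
include hσ hq in
theorem exists_not_cube_fixed : ∃ c : Fˣ, H.σ ((c : F) ^ 3) ≠ (c : F) ^ 3 := by
  by_contra! h
  obtain ⟨c, hc⟩ := IsCyclic.exists_generator (α := Fˣ)
  have hcard : orderOf c = H.q ^ 2 - 1 := by
    rw [orderOf_eq_card_of_forall_mem_zpowers hc, Nat.card_units, H.card_field]
  have h1 : c ^ (3 * (H.q - 1)) = 1 := by
    refine Units.ext ?_
    rw [Units.val_pow_eq_pow_val, Units.val_one, pow_mul]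
    have hc0 : (c : F) ^ 3 ≠ 0 := pow_ne_zero _ c.ne_zero
    refine mul_left_cancel₀ hc0 ?_
    rw [← pow_succ', show H.q - 1 + 1 = H.q by omega, mul_one, ← hσ, h c]
  have h2 := orderOf_dvd_of_pow_eq_one h1
  rw [hcard] at h2
  have h4 := Nat.le_of_dvd (by omega) h2
  have h5 : 4 * H.q ≤ H.q ^ 2 := by rw [pow_two]; exact Nat.mul_le_mul_right _ hq
  omega

include hR hst hsplit hσ hq in
theorem not_bin_intermediate {v₀ : F} (hv₀ : v₀ ∈ midSet K B) (hv0 : v₀ ≠ 0) {b₀ : F}
    (hb₀ : b₀ ∉ midSet K B) : ¬ Bin K := by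
  classical
  haveI := Fintype.ofFinite F
  let S : Finset (Finset Fˣ) := Finset.univ.filter fun I =>
    (1 : Fˣ) ∈ I ∧ ∃ b ∈ capSet K B I, b ≠ 0
  have hch1 : ch H (1 : Fˣ) = 1 := by simp [ch]
  have hone : ∀ {I : Finset Fˣ}, (1 : Fˣ) ∈ I → ∀ b ∈ capSet K B I, b ∈ midSet K B := fun hI b hb => by
    have h := hb 1 hI
    rwa [hch1, div_one] at h
  have hS : S.Nonempty := ⟨{1}, by
    simp only [S, Finset.mem_filter, Finset.mem_univ, true_and, Finset.mem_singleton]
    refine ⟨v₀, fun c hc => ?_, hv0⟩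
    rw [Finset.mem_singleton.1 hc, hch1, div_one]
    exact hv₀⟩
  obtain ⟨I, hIS, hmin⟩ := S.exists_min_image (fun I => (capSet K B I).ncard) hS
  obtain ⟨-, hI, v, hv, hvne⟩ := Finset.mem_filter.1 hIS
  set W := capSet K B I with hW
  have hdich : ∀ c : Fˣ, (∃ b ∈ W, b / ch H c ∈ W ∧ b ≠ 0) → ∀ b, b ∈ W ↔ b / ch H c ∈ W := by
    rintro c ⟨b₁, h1, h2, h3⟩
    have hmem : I ∪ I.image (c * ·) ∈ S := by
      refine Finset.mem_filter.2 ⟨Finset.mem_univ _, Finset.mem_union_left _ hI, b₁, fun j hj => ?_, h3⟩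
      rcases Finset.mem_union.1 hj with h | h
      · exact h1 j h
      · exact ((capSet_smul hd I c b₁).2 h2) j h
    have hsub : capSet K B (I ∪ I.image (c * ·)) ⊆ W := fun b hb j hj => hb j (Finset.mem_union_left _ hj)
    have heq := Set.eq_of_subset_of_ncard_le hsub (hmin _ hmem) (Set.toFinite _)
    have hle : W ⊆ {b | b / ch H c ∈ W} := fun b hb => by
      rw [← heq] at hb
      exact (capSet_smul hd I c b).1 fun j hj => hb j (Finset.mem_union_right _ hj)
    have hcard : {b | b / ch H c ∈ W}.ncard = W.ncard :=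
      Set.ncard_congr (fun b _ => b / ch H c) (fun b hb => hb)
        (fun a b _ _ h => by rwa [div_left_inj' (ch_ne hd c)] at h)
        fun b hb => ⟨b * ch H c, by simpa [ch_ne hd c] using hb, by simp [ch_ne hd c]⟩
    intro b
    exact Set.ext_iff.1 (Set.eq_of_subset_of_ncard_le hle hcard.le (Set.toFinite _)) b
  have hzero : (0 : F) ∈ W := by
    have h := capSet_add hd hv hv
    rwa [CharTwo.add_self_eq_zero] at h
  have hchfix : ∀ c : Fˣ, H.σ (c : F) = c → ch H c = c := fun c hc => by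
    rw [ch, hc, pow_two, mul_div_assoc, div_self c.ne_zero, mul_one]
  by_cases hline : ∀ c : Fˣ, H.σ (c : F) = c → ∀ b, b ∈ W ↔ b / ch H c ∈ W
  · -- `W` is a line over the fixed field
    have hscal : ∀ s : F, H.σ s = s → ∀ b ∈ W, s * b ∈ W := by
      intro s hs b hb
      rcases eq_or_ne s 0 with rfl | hs0
      · rwa [zero_mul]
      rw [hline (Units.mk0 s hs0) hs, hchfix _ hs]
      simpa [hs0] using hb
    have hall : ∀ b ∈ W, H.σ (b / v) = b / v := by
      intro b hb
      by_contra hρ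
      set ρ := b / v with hρdef
      have hρ' : ρ + H.σ ρ ≠ 0 := fun e => hρ ((eq_neg_of_add_eq_zero_right e).trans (CharTwo.neg_eq ρ))
      refine hb₀ (hone hI b₀ ?_)
      set z := b₀ / v with hz
      set t := (z + H.σ z) / (ρ + H.σ ρ) with ht
      have hts : H.σ t = t := by
        rw [ht, map_div₀, H.conj.trace_mem, H.conj.trace_mem]
      have htd : t * (ρ + H.σ ρ) = z + H.σ z := div_mul_cancel₀ _ hρ'
      have hss : H.σ (z + t * ρ) = z + t * ρ := by
        rw [map_add, map_mul, hts]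
        linear_combination htd + (H.σ z - t * ρ) * two_eq (F := F)
      have e : b₀ = (z + t * ρ) * v + t * b := by
        have e1 : ρ * v = b := div_mul_cancel₀ b hvne
        have e2 : z * v = b₀ := div_mul_cancel₀ b₀ hvne
        linear_combination (-1 : F) * e2 - t * e1 - (t * b) * two_eq (F := F)
      rw [e]
      exact capSet_add hd (hscal _ hss v hv) (hscal _ hts b hb)
    obtain ⟨c, hc⟩ := exists_not_cube_fixed hd hσ hq
    set χ := ch H c with hχ
    have hχ0 : χ ≠ 0 := ch_ne hd c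
    have hN : H.σ ((c : F) * H.σ c) = (c : F) * H.σ c := H.conj.norm_mem _
    have hNc : (c : F) * H.σ c ≠ 0 := mul_ne_zero c.ne_zero ((map_ne_zero _).2 c.ne_zero)
    have hχσ : H.σ χ ≠ χ := fun e => hc (by
      have h3 : χ * ((c : F) * H.σ c) = (c : F) ^ 3 := by
        rw [hχ, ch, show (c : F) ^ 2 / H.σ c * ((c : F) * H.σ c) = (c : F) ^ 2 / H.σ c * H.σ c * c by ring,
          div_mul_cancel₀ _ ((map_ne_zero _).2 c.ne_zero), ← pow_succ]
      rw [← h3, map_mul, hN, e])
    have hch2 : ch H (c * c) = χ * χ := ch_mul hd c c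
    have hline' : ∀ b ∈ W, ∀ z : F, b / z ∈ W → b ≠ 0 → z ≠ 0 → H.σ z = z := by
      intro b hb z hbz hb0 hz0
      have h1 := hall b hb
      have h2 := hall _ hbz
      rw [div_right_comm, map_div₀, h1] at h2
      have hσz : H.σ z ≠ 0 := (map_ne_zero _).2 hz0
      rw [div_eq_div_iff hσz hz0] at h2
      exact (mul_left_cancel₀ (div_ne_zero hb0 hvne) h2).symm
    have hTσ : H.σ (χ + H.σ χ) = χ + H.σ χ := H.conj.trace_mem _
    have hNσ : H.σ (χ * H.σ χ) = χ * H.σ χ := H.conj.norm_mem _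
    have hNχ : χ * H.σ χ ≠ 0 := mul_ne_zero hχ0 ((map_ne_zero _).2 hχ0)
    refine not_bin_block hd hR hst hsplit I hI c (c * c) hv
      (y := (χ + H.σ χ) / (χ * H.σ χ) * χ * v) ?_ ?_ ?_ ?_
    · rw [show (χ + H.σ χ) / (χ * H.σ χ) * χ * v / χ = (χ + H.σ χ) / (χ * H.σ χ) * v by field_simp]
      exact hscal _ (by rw [map_div₀, hTσ, hNσ]) v hv
    · rw [hch2, show (v + (χ + H.σ χ) / (χ * H.σ χ) * χ * v) / (χ * χ) = (χ * H.σ χ)⁻¹ * v by
        have hσχ : H.σ χ ≠ 0 := (map_ne_zero _).2 hχ0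
        field_simp
        linear_combination (H.σ χ) * two_eq (F := F)]
      exact hscal _ (by rw [map_inv₀, hNσ]) v hv
    · intro h
      rw [hch2] at h
      have h1 := hline' v hv (χ * χ) h hvne (mul_ne_zero hχ0 hχ0)
      rw [map_mul] at h1
      have h2 : (H.σ χ + χ) * (H.σ χ + χ) = 0 := by
        linear_combination h1 + (χ * χ + H.σ χ * χ) * two_eq (F := F)
      rw [mul_self_eq_zero] at h2
      exact hχσ ((eq_neg_of_add_eq_zero_left h2).trans (CharTwo.neg_eq _))
    · intro b hb hbc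
      by_contra hb0
      exact hχσ (hline' b hb χ hbc hb0 hχ0)
  · push Not at hline
    obtain ⟨c, hc, b₂, hb₂⟩ := hline
    have hno : ∀ b ∈ W, b / ch H c ∈ W → b = 0 := fun b hb hbc => by
      by_contra hb0
      have h := hdich c ⟨b, hb, hbc, hb0⟩ b₂
      tauto
    have hc1 : (1 : F) + c ≠ 0 := fun e => by
      have h1 : (c : F) = 1 := (eq_neg_of_add_eq_zero_right e).trans (CharTwo.neg_eq 1)
      have h := hno v hv (by rwa [hchfix c hc, h1, div_one])
      exact hvne h
    set c' : Fˣ := Units.mk0 (1 + (c : F)) hc1 with hc'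
    have hc'σ : H.σ (c' : F) = c' := by simp [hc', map_add, hc]
    refine not_bin_block hd hR hst hsplit I hI c c' hv (y := (c : F) * v) ?_ ?_ ?_ hno
    · rw [hchfix c hc, mul_div_cancel_left₀ _ c.ne_zero]
      exact hv
    · rw [hchfix c' hc'σ, show v + (c : F) * v = (c' : F) * v by rw [hc', Units.val_mk0]; ring,
        mul_div_cancel_left₀ _ c'.ne_zero]
      exact hv
    · intro h
      have hiff := hdich c' ⟨v, hv, h, hvne⟩
      have h1 : (c' : F) * v ∈ W := by
        rw [hiff, hchfix c' hc'σ, mul_div_cancel_left₀ _ c'.ne_zero]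
        exact hv
      have h2 : (c : F) * v ∈ W := by
        have e : (c : F) * v = (c' : F) * v + v := by
          rw [hc', Units.val_mk0]
          linear_combination (-v) * two_eq (F := F)
        rw [e]
        exact capSet_add hd h1 hv
      exact mul_ne_zero c.ne_zero hvne (hno _ h2 (by rwa [hchfix c hc, mul_div_cancel_left₀ _ c.ne_zero]))

omit hst hsplit in
include hR hσ hq in
/-- A subgroup of the stabiliser of a point giving a binary action is the root group times the centre. -/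
theorem borel_binary (hst : K ≤ stE B) (hZ : Subgroup.center H.SIsom ≤ K) (hbin : Bin K) {g : H.SIsom}
    (hg : g ∈ K) : ∃ r ∈ H.rootGroup B.ee, ∃ z ∈ Subgroup.center H.SIsom, g = r * z := by
  have hN := fun g (hg : g ∈ K) => norm_one hd hR hst hσ hbin hg
  obtain ⟨C, hCe, hsplit⟩ := exists_split hd hR hst hZ hN
  have hpt : pt C = pt B := pt_eq_iff.2 ⟨1, one_ne_zero, by rw [hCe, one_smul]⟩
  rw [← root_congr hpt] at hR ⊢
  rw [← stE_congr hpt] at hst
  have hN' : ∀ g ∈ K, ea C g * H.σ (ea C g) = 1 := fun g hg => by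
    rw [ea_congr hpt (hst hg)]
    exact hN g hg
  have hV : ∀ g ∈ K, g ∈ fixE C → eb C g = 0 := by
    intro g hg hgf
    by_contra h0
    by_cases hall : ∀ b : F, b ∈ midSet K C
    · exact not_bin_full hd hst hN' (fun u hu => mem_of_mid hd hR hu (hall _)) hbin
    · push Not at hall
      obtain ⟨b₀, hb₀⟩ := hall
      exact not_bin_intermediate hd hR hst hsplit hσ hq ⟨g, hg, hgf, rfl⟩ h0 hb₀ hbin
  have hcube := cube_one_of_small hd hR hst hN' hsplit hV hbin hg
  have hr := split_mem hd (hst hg)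
  exact ⟨_, mem_root_of_eb hd C hr (hV _ (mul_mem hg (inv_mem (hsplit g hg (hst hg)))) hr), _,
    tor_central hd C hcube (hN' g hg), (inv_mul_cancel_right g _).symm⟩

end Cfsg.Lib.BinaryInv
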