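import Cfsg.Agent.BinaryInv.UAux
import Mathlib

/-!
A subgroup between a root group and the stabiliser of its point gives a binary action only if it is the
root group times the centre.
-/

set_option autoImplicit false
set_option linter.unusedSectionVars false
set_option linter.style.haveILetI false

open scoped LinearAlgebra.Projectivization

namespace Cfsg.Lib.BinaryInv

open Cfsg.Lib.Classical Cfsg.Lib.Components.UnitaryThree Cfsg.Lib.Known.PSUThree Cfsg.Lib.Suz.Binary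

universe u v

variable {F : Type u} [Field F] [Finite F] [CharP F 2] {V : Type v} [AddCommGroup V] [Module F V]
  [FiniteDimensional F V] {H : HermSpace F V} (hd : Module.finrank F V = 3)
  {K : Subgroup H.SIsom} {B : Frame H} (hR : H.rootGroup B.ee ≤ K) (hst : K ≤ stE B)

include hd

theorem pt_ne_swap (B : Frame H) : pt (swapFrame B) ≠ pt B := fun h => by
  obtain ⟨c, -, e⟩ := pt_eq_iff.1 h
  have h1 := congrArg (fun z => H.h z B.e) e
  simp [swapFrame, H.smul_left, B.ee, B.fe] at h1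

include hR hst in
theorem not_bin_tor {a : Fˣ} (ha : H.σ (a : F) = a) (ha1 : (a : F) ≠ 1) (hT : tor hd B a ∈ K) :
    ¬ Bin K := by
  obtain ⟨s, hse, hsw, hsf⟩ := exists_swap hd B
  have hsi : ∀ {x y : V}, s.1.1 x = y → (s⁻¹).1.1 y = x := fun {x y} h => by
    rw [← h]; exact H.inv_apply_self s.1 x
  set T := tor hd B a with hTdef
  have hTi : s⁻¹ * T * s = T⁻¹ := by
    rw [hTdef, ← tor_inv]
    refine ext_lin hd B ?_ ?_ ?_
    · rw [H.smul_mul_apply, H.smul_mul_apply, hse, tor_f, map_smul, hsi hse, tor_e, ha,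
        Units.val_inv_eq_inv_val]
    · rw [H.smul_mul_apply, H.smul_mul_apply, hsw, tor_w, map_smul, hsi hsw, tor_w, ha,
        Units.val_inv_eq_inv_val, map_inv₀, ha]
      simp
    · rw [H.smul_mul_apply, H.smul_mul_apply, hsf, tor_e, map_smul, hsi hsf, tor_f,
        Units.val_inv_eq_inv_val, map_inv₀, ha, inv_inv]
  set μ : F := (a : F) * a with hμ
  have hμσ : H.σ μ = μ := by rw [hμ, map_mul, ha]
  obtain ⟨x, hx, hxfix, hxb, hxc, -, -⟩ := exists_root hd B (c := 1 + μ) (by rw [map_add, map_one, hμσ])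
  obtain ⟨y, hy, hyfix, hyb, hyc, -, -⟩ := exists_root hd B (c := 1) (map_one _)
  have hec : ∀ {g h : H.SIsom}, g ∈ H.rootGroup B.ee → h ∈ H.rootGroup B.ee →
      ec B (g * h) = ec B g + ec B h := fun {g h} hg hh => by
    rw [(eb_mul hd B ((root_le_fixE B).1 hg) ((root_le_fixE B).1 hh)).2, (root_le_fixE B).2 g hg,
      mul_zero, sub_zero]
  have hinv : ∀ {g : H.SIsom}, g ∈ H.rootGroup B.ee → ec B g⁻¹ = ec B g := fun {g} hg => by
    have h := hec hg (inv_mem hg)
    rw [mul_inv_cancel, (eb_one B).2] at h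
    exact ((eq_neg_of_add_eq_zero_left h.symm).trans (CharTwo.neg_eq _)).symm
  have hTT : T * T ∈ K := mul_mem hT hT
  have hcT : ∀ {g : H.SIsom}, g ∈ H.rootGroup B.ee →
      T * g * T⁻¹ ∈ H.rootGroup B.ee ∧ ec B (T * g * T⁻¹) = μ * ec B g := fun {g} hg => by
    obtain ⟨h1, h2⟩ := conj_ec hd B (tor_mem hd B a) hg
    rw [ea_tor, ha] at h2
    exact ⟨h1, h2⟩
  have hTTy : T * T * y * (T * T)⁻¹ = T * (T * y * T⁻¹) * T⁻¹ := by group
  refine not_bin_four' K (H.rootGroup B.ee) s x y T (T * T) ?_ hx hy ?_ hT ?_ hTT ?_ ?_ ?_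
  · intro e he he'
    by_contra hne
    have h := mem_stE.1 (hst he')
    obtain ⟨c, hc⟩ := h
    have h1 : e • pt (swapFrame B) = pt (swapFrame B) := by
      rw [pt, HermSpace.smul_isoMk, HermSpace.isoMk_eq_iff]
      refine ⟨c, ?_⟩
      show c • B.f = e.1.1 B.f
      have hh : s.1.1 ((s⁻¹ * e * s).1.1 B.e) = s.1.1 (c • B.e) := congrArg _ hc
      rw [map_smul, hse, ← H.smul_mul_apply, mul_assoc, mul_inv_cancel_left, H.smul_mul_apply, hse] at hh
      exact hh.symm
    exact pt_ne_swap hd B (fix_pt hd B ((root_le_fixE B).1 he) hne h1)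
  · intro d hd' _ e he
    exact (conj_ec hd B (hst hd') he).1
  · rw [hTi]; exact inv_mem hT
  · rw [show s⁻¹ * (T * T) * s = (s⁻¹ * T * s) * (s⁻¹ * T * s) by group, hTi]
    exact mul_mem (inv_mem hT) (inv_mem hT)
  · have h1 := hcT hx
    have h2 := hcT (hcT hy).1
    rw [hTTy]
    refine ext_fixE hd B (mul_mem (inv_mem hxfix) hyfix)
      (mul_mem (inv_mem ((root_le_fixE B).1 h1.1)) ((root_le_fixE B).1 h2.1)) ?_ ?_
    · rw [(root_le_fixE B).2 _ (mul_mem (inv_mem hx) hy), (root_le_fixE B).2 _ (mul_mem (inv_mem h1.1) h2.1)]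
    · rw [hec (inv_mem hx) hy, hinv hx, hec (inv_mem h1.1) h2.1, hinv h1.1, h1.2, h2.2, (hcT hy).2, hxc, hyc]
      linear_combination (1 - μ * μ) * two_eq (F := F)
  · intro d hdK _ e1 e2
    have f1 := (conj_ec hd B (hst hdK) hx).2
    have f2 := (conj_ec hd B (hst hdK) hy).2
    rw [e1, (hcT hx).2, hxc] at f1
    rw [e2, hTTy, (hcT (hcT hy).1).2, (hcT hy).2, hyc, mul_one, mul_one] at f2
    rw [← f2] at f1
    have hz : μ * (1 + μ) * (1 + μ) = 0 := by
      linear_combination f1 + μ * μ * (1 + μ) * two_eq (F := F)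
    have hμ1 : 1 + μ ≠ 0 := fun e => ha1 (by
      have h' : ((a : F) + 1) * ((a : F) + 1) = 0 := by
        rw [hμ] at e
        linear_combination e + (a : F) * two_eq (F := F)
      rw [mul_self_eq_zero] at h'
      exact (eq_neg_of_add_eq_zero_left h').trans (CharTwo.neg_eq _))
    exact hμ1 (by
      rcases mul_eq_zero.1 hz with h | h
      · rcases mul_eq_zero.1 h with h' | h'
        · exact absurd h' (mul_ne_zero a.ne_zero a.ne_zero)
        · exact h'
      · exact h)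

variable (hσ : ∀ x, H.σ x = x ^ H.q)

include hR hst hσ in
theorem norm_one (hbin : Bin K) {g : H.SIsom} (hg : g ∈ K) : ea B g * H.σ (ea B g) = 1 := by
  by_contra hN
  obtain ⟨C, hCe, hC⟩ := exists_diag_frame hd (hst hg) hN
  have hpt : pt C = pt B := pt_eq_iff.2 ⟨1, one_ne_zero, by rw [hCe, one_smul]⟩
  have hRC : H.rootGroup C.ee ≤ K := by rw [root_congr hpt]; exact hR
  have hstC : K ≤ stE C := by rw [stE_congr hpt]; exact hst
  set a := eaU hd (hst hg) with ha
  have hpow : tor hd C (a ^ (H.q + 1)) ∈ K := by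
    rw [← torHom_apply, map_pow, torHom_apply, ← hC]
    exact pow_mem hg _
  have hval : ((a ^ (H.q + 1) : Fˣ) : F) = ea B g * H.σ (ea B g) := by
    rw [Units.val_pow_eq_pow_val, pow_succ, ← hσ, mul_comm]; rfl
  refine not_bin_tor hd hRC hstC ?_ ?_ hpow hbin
  · rw [hval, H.conj.norm_mem]
  · rwa [hval]

omit hst in
/-- A frame in which the diagonal parts lie in the subgroup. -/
theorem exists_split (hR : H.rootGroup B.ee ≤ K) (hst : K ≤ stE B) (hZ : Subgroup.center H.SIsom ≤ K)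
    (hN : ∀ g ∈ K, ea B g * H.σ (ea B g) = 1) :
    ∃ C : Frame H, C.e = B.e ∧ ∀ g : H.SIsom, g ∈ K → ∀ hg : g ∈ stE C, tor hd C (eaU hd hg) ∈ K := by
  let φ : K →* Fˣ := MonoidHom.mk' (fun g => eaU hd (hst g.2))
    fun g k => Units.ext (ea_mul hd B (hst g.2) (hst k.2))
  have key : ∀ (C : Frame H), C.e = B.e → ∀ g : H.SIsom, ∀ (hgK : g ∈ K) (hg : g ∈ stE C),
      eaU hd hg = φ ⟨g, hgK⟩ := fun C hC g hgK hg =>
    Units.ext (ea_congr (pt_eq_iff.2 ⟨1, one_ne_zero, by rw [hC, one_smul]⟩) hg)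
  obtain ⟨⟨_, m, rfl⟩, hgen⟩ := IsCyclic.exists_generator (α := φ.range)
  have hpow : ∀ g : H.SIsom, ∀ hg : g ∈ K, ∃ k : ℤ, φ m ^ k = φ ⟨g, hg⟩ := fun g hg => by
    obtain ⟨k, hk⟩ := hgen ⟨φ ⟨g, hg⟩, _, rfl⟩
    exact ⟨k, congrArg Subtype.val hk⟩
  by_cases h3 : (φ m : F) ^ 3 = 1
  · refine ⟨B, rfl, fun g hgK hg => hZ (tor_central hd B ?_ (hN g hgK))⟩
    obtain ⟨k, hk⟩ := hpow g hgK
    rw [key B rfl g hgK hg, ← hk, ← Units.val_pow_eq_pow_val]
    have h3' : (φ m) ^ 3 = 1 := Units.ext (by rw [Units.val_pow_eq_pow_val]; exact h3)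
    rw [← zpow_natCast, ← zpow_mul, mul_comm, zpow_mul, zpow_natCast, h3', one_zpow, Units.val_one]
  · obtain ⟨C, hC, r, hr, hrm⟩ := exists_diag_frame' hd (hst m.2) (hN m m.2) h3
    refine ⟨C, hC, fun g hgK hg => ?_⟩
    obtain ⟨k, hk⟩ := hpow g hgK
    rw [key C hC g hgK hg, ← hk, ← torHom_apply, map_zpow, torHom_apply]
    refine zpow_mem ?_ k
    show tor hd C (eaU hd (hst m.2)) ∈ K
    rw [← hrm]
    exact mul_mem (hR hr) m.2

variable (hN : ∀ g ∈ K, ea B g * H.σ (ea B g) = 1)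
  (hsplit : ∀ g : H.SIsom, g ∈ K → ∀ hg : g ∈ stE B, tor hd B (eaU hd hg) ∈ K)

include hst hN in
/-- The subgroup contains all unipotent elements of the point. -/
theorem not_bin_full (hU : fixE B ≤ K) : ¬ Bin K := by
  classical
  obtain ⟨θ, hθ⟩ := H.conj.exists_trace_one
  have hθ0 : θ ≠ 0 := fun e => by rw [e, map_zero, add_zero] at hθ; exact zero_ne_one hθ
  -- a multiplier realised in `K`, and the second vector
  obtain ⟨g₀, hg₀, β', hβ', hne⟩ : ∃ g₀ ∈ K, ∃ β' : F,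
      β' * H.σ β' = θ * ea B g₀ + H.σ (θ * ea B g₀) ∧
      (ea B g₀ ≠ 1 ∨ ((∀ g ∈ K, ea B g = 1) ∧ β' ≠ 1)) := by
    by_cases h : ∃ g ∈ K, ea B g ≠ 1
    · obtain ⟨g, hg, hg1⟩ := h
      obtain ⟨β', hβ'⟩ := H.conj.norm_surjective (H.conj.trace_mem (θ * ea B g))
      exact ⟨g, hg, β', hβ', Or.inl hg1⟩
    · push Not at h
      obtain ⟨b, hb⟩ := H.conj.ne_id
      have hb0 : b ≠ 0 := fun e => hb (by rw [e, map_zero])
      refine ⟨1, one_mem _, H.σ b / b, ?_, Or.inr ⟨h, fun e => hb ((div_eq_one_iff_eq hb0).1 e)⟩⟩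
      rw [map_div₀, H.conj.invol, show ea B (1 : H.SIsom) = 1 from B.ef, mul_one, hθ]
      have hσb : H.σ b ≠ 0 := (map_ne_zero _).2 hb0
      field_simp
  set ζ := ea B g₀ with hζ
  have hζN := hN g₀ hg₀
  have hζ0 : ζ ≠ 0 := left_ne_zero_of_mul_eq_one hζN
  set x := θ • B.e + (1 : F) • B.w + B.f with hx
  set y := (θ * ζ) • B.e + β' • B.w + B.f with hy
  have hform : ∀ α β : F, H.h (α • B.e + β • B.w + B.f) (α • B.e + β • B.w + B.f) =
      α + β * H.σ β + H.σ α := fun α β => by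
    simp [H.add_left, H.add_right, H.smul_left, H.smul_right, B.ee, B.ff, B.ef, B.fe, B.ww, B.we, B.wf,
      B.ew, B.fw]
  have hxx : H.h x x = 0 := by
    rw [hx, hform]; linear_combination hθ + (map_one H.σ) + two_eq (F := F)
  have hyy : H.h y y = 0 := by
    rw [hy, hform]
    linear_combination hβ' + (θ * ζ + H.σ (θ * ζ)) * two_eq (F := F)
  have hxe : H.h x B.e = 1 := by simp [hx, H.add_left, H.smul_left, B.ee, B.we, B.fe]
  have hye : H.h y B.e = 1 := by simp [hy, H.add_left, H.smul_left, B.ee, B.we, B.fe]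
  have hxf : H.h x B.f = θ := by simp [hx, H.add_left, H.smul_left, B.ef, B.wf, B.ff]
  have hyf : H.h y B.f = θ * ζ := by simp [hy, H.add_left, H.smul_left, B.ef, B.wf, B.ff]
  obtain ⟨U, hU', hUx⟩ := exists_fixE_map hd B hxx hyy (hxe.trans hye.symm) (by rw [hye]; exact one_ne_zero)
  obtain ⟨L, hL, hLx⟩ := exists_fixE_map hd (swapFrame B) (y := ζ⁻¹ • y) hxx
    (by rw [H.smul_left, H.smul_right, hyy, mul_zero, mul_zero])
    (by
      show H.h x B.f = H.h (ζ⁻¹ • y) B.f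
      rw [H.smul_left, hxf, hyf, mul_comm θ, inv_mul_cancel_left₀ hζ0])
    (by
      show H.h (ζ⁻¹ • y) B.f ≠ 0
      rw [H.smul_left, hyf, mul_comm θ, inv_mul_cancel_left₀ hζ0]
      exact hθ0)
  obtain ⟨s, hse, hsw, hsf⟩ := exists_swap hd B
  obtain ⟨u, -, huf, -⟩ := exists_unip hd B hxx hxe
  have hgx : (u * s).1.1 B.e = x := by rw [H.smul_mul_apply, hse, huf]
  have hgx' : ((u * s)⁻¹).1.1 x = B.e := by rw [← hgx]; exact H.inv_apply_self (u * s).1 _
  refine not_bin_blocks K {1} {s} {u * s} U L ?_ ?_ ?_ ?_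
  · rintro _ rfl
    simpa using hU hU'
  · intro g hg
    rw [show g = s from hg]
    refine hU ?_
    show (s⁻¹ * L * s).1.1 B.e = B.e
    rw [H.smul_mul_apply, H.smul_mul_apply, hse, show L.1.1 B.f = B.f from hL, ← hse]
    exact H.inv_apply_self s.1 _
  · intro g hg
    rw [show g = u * s from hg]
    set k := (u * s)⁻¹ * (U⁻¹ * L) * (u * s) with hk
    have hke : k.1.1 B.e = ζ⁻¹ • B.e := by
      rw [hk, H.smul_mul_apply, H.smul_mul_apply, hgx, H.smul_mul_apply, hLx, map_smul,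
        show (U⁻¹).1.1 y = x by rw [← hUx]; exact H.inv_apply_self U.1 _, map_smul, hgx']
    have h1 : g₀ * k ∈ fixE B := by
      show (g₀ * k).1.1 B.e = B.e
      rw [H.smul_mul_apply, hke, map_smul, (coords hd B (hst hg₀)).1, smul_smul, ← hζ, inv_mul_cancel₀ hζ0,
        one_smul]
    simpa using mul_mem (inv_mem hg₀) (hU h1)
  · intro d h1 h2 h3
    have hdK : d ∈ K := by simpa using h1 1 rfl
    obtain ⟨c, hc⟩ := mem_stE.1 (hst (h2 s rfl))
    have hdf : d.1.1 B.f = c • B.f := by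
      have h := congrArg s.1.1 hc
      rw [map_smul, hse, ← H.smul_mul_apply, mul_assoc, mul_inv_cancel_left, H.smul_mul_apply, hse] at h
      exact h
    obtain ⟨κ, hκ⟩ := mem_stE.1 (hst (h3 _ rfl))
    have hy' : y = κ • d.1.1 x := by
      have h : (d⁻¹ * U).1.1 x = κ • x := by
        calc (d⁻¹ * U).1.1 x = ((u * s) * ((u * s)⁻¹ * (d⁻¹ * U) * (u * s))).1.1 B.e := by
              rw [show (u * s) * ((u * s)⁻¹ * (d⁻¹ * U) * (u * s)) = (d⁻¹ * U) * (u * s) by group,
                H.smul_mul_apply (d⁻¹ * U) (u * s), hgx]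
          _ = κ • x := by rw [H.smul_mul_apply (u * s), hκ, map_smul, hgx]
      rw [H.smul_mul_apply, hUx] at h
      have h' := congrArg d.1.1 h
      rwa [map_smul, ← H.smul_mul_apply, mul_inv_cancel,
        show ((1 : H.SIsom)).1.1 y = y from rfl] at h'
    have hdt := eq_tor hd (hst hdK) hdf
    set a := Units.mk0 (ea B d) (coords hd B (hst hdK)).2.1
    have haN : (a : F) * H.σ a = 1 := hN d hdK
    rw [hdt, hx, hy, map_add, map_add, map_smul, map_smul, tor_e, tor_w, tor_f,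
      inv_eq_of_mul_eq_one_left haN] at hy'
    have he := congrArg (fun z => H.h z B.e) hy'
    have hf := congrArg (fun z => H.h z B.f) hy'
    have hw := congrArg (fun z => H.h z B.w) hy'
    simp [H.add_left, H.smul_left, B.ee, B.ff, B.ef, B.fe, B.ww, B.we, B.wf, B.ew, B.fw] at he hf hw
    rcases hne with h | ⟨h, hb⟩
    · exact h (mul_left_cancel₀ hθ0 (by rw [mul_one]; linear_combination hf - θ * he))
    · have ha1 : (a : F) = 1 := h d hdK
      rw [ha1, mul_one] at he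
      rw [ha1, ← he, map_one] at hw
      exact hb (by simpa using hw)

include hR hst hN hsplit in
/-- The subgroup has no unipotent elements beyond the root group, and an element that is no scalar. -/
theorem cube_one_of_small (hV : ∀ g ∈ K, g ∈ fixE B → eb B g = 0)
    (hbin : Bin K) {g : H.SIsom} (hg : g ∈ K) : ea B g ^ 3 = 1 := by
  by_contra h3
  set a := eaU hd (hst hg)
  have haN : (a : F) * H.σ a = 1 := hN g hg
  set T := tor hd B a with hTdef
  have hT : T ∈ K := hsplit g hg (hst hg)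
  set ε := ch H a with hεdef
  have hε : ε = (a : F) ^ 3 := by
    rw [hεdef, ch, div_eq_iff ((map_ne_zero _).2 a.ne_zero)]
    linear_combination (-(a : F) ^ 2) * haN
  have hε1 : ε ≠ 1 := fun e => h3 (hε.symm.trans e)
  have hε0 : ε ≠ 0 := ch_ne hd a
  obtain ⟨u, hu, hub⟩ := exists_fixE_eb hd B 1
  obtain ⟨v, hv, hvb⟩ := exists_fixE_eb hd B ((1 + ε) / ε)
  have hε' : (1 : F) + ε ≠ 0 := fun e => hε1 ((eq_neg_of_add_eq_zero_right e).trans (CharTwo.neg_eq 1))
  refine not_bin_blocks K {1} {u} {v} T (u * (T * T) * u⁻¹) ?_ ?_ ?_ ?_ hbin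
  · rintro _ rfl
    simpa using hT
  · intro g hg
    rw [show g = u from hg]
    simpa [mul_assoc] using mul_mem hT hT
  · intro g hg
    rw [show g = v from hg]
    set p := T⁻¹ * u * T with hp
    set r := T * (u⁻¹ * v) * T⁻¹ with hr
    obtain ⟨hp1, hp2⟩ := conj_tor' hd a hu
    obtain ⟨hr1, hr2⟩ := conj_tor hd a (mul_mem (inv_mem hu) hv)
    have hroot : v⁻¹ * p * r ∈ H.rootGroup B.ee := by
      refine mem_root_of_eb hd B (mul_mem (mul_mem (inv_mem hv) hp1) hr1) ?_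
      rw [eb_prod hd (mul_mem (inv_mem hv) hp1) hr1, eb_prod hd (inv_mem hv) hp1, eb_inv hd hv, hr2,
        eb_prod hd (inv_mem hu) hv, eb_inv hd hu, hp2, hub, hvb, ← hεdef]
      field_simp
      linear_combination (1 + ε + ε * ε) * two_eq (F := F)
    rw [show v⁻¹ * (T⁻¹ * (u * (T * T) * u⁻¹)) * v = v⁻¹ * p * r * T by rw [hp, hr]; group]
    exact mul_mem (hR hroot) hT
  · intro d h1 h2 h3'
    have hdK : d ∈ K := by simpa using h1 1 rfl
    have hd2 := h2 u rfl
    set t := tor hd B (eaU hd (hst hdK)) with htdef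
    have ht : t ∈ K := hsplit d hdK (hst hdK)
    have hr := split_mem hd (hst hdK)
    rw [← htdef] at hr
    have hrR : d * t⁻¹ ∈ H.rootGroup B.ee :=
      mem_root_of_eb hd B hr (hV _ (mul_mem hdK (inv_mem ht)) hr)
    obtain ⟨hc1, hc2⟩ := conj_tor hd (eaU hd (hst hdK)) hu
    rw [← htdef] at hc1 hc2
    have hz : eb B (u⁻¹ * (d * t⁻¹) * (t * u * t⁻¹)) = 0 := by
      refine hV _ ?_ (mul_mem (mul_mem (inv_mem hu) hr) hc1)
      rw [show u⁻¹ * (d * t⁻¹) * (t * u * t⁻¹) = u⁻¹ * d * u * t⁻¹ by group]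
      exact mul_mem hd2 (inv_mem ht)
    rw [eb_prod hd (mul_mem (inv_mem hu) hr) hc1, eb_prod hd (inv_mem hu) hr, eb_inv hd hu, hc2, hub,
      (root_le_fixE B).2 _ hrR, add_zero, mul_one] at hz
    set a' := eaU hd (hst hdK) with ha'
    have ha'N : (a' : F) * H.σ a' = 1 := hN d hdK
    have hone : ch H a' = 1 := (eq_neg_of_add_eq_zero_right hz).trans (CharTwo.neg_eq 1)
    have hcube : (a' : F) ^ 3 = 1 := by
      rw [ch, div_eq_one_iff_eq ((map_ne_zero _).2 a'.ne_zero)] at hone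
      linear_combination (a' : F) * hone + ha'N
    have htc := tor_central hd B hcube ha'N
    rw [← htdef] at htc
    have hvd : v⁻¹ * d * v ∈ K := by
      have e : v⁻¹ * d * v = v⁻¹ * (d * t⁻¹) * v⁻¹⁻¹ * t := by
        rw [inv_inv]
        calc v⁻¹ * d * v = v⁻¹ * (d * t⁻¹) * (t * v) := by group
          _ = v⁻¹ * (d * t⁻¹) * (v * t) := by rw [Subgroup.mem_center_iff.1 htc v]
          _ = _ := by group
      rw [e]
      exact mul_mem (hR (conj_ec hd B (fixE_le_stE B (inv_mem hv)) hrR).1) ht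
    have hvT : v⁻¹ * T * v * T⁻¹ ∈ K := by
      refine mul_mem ?_ (inv_mem hT)
      have := mul_mem hvd (h3' v rfl)
      rwa [show v⁻¹ * d * v * (v⁻¹ * (d⁻¹ * T) * v) = v⁻¹ * T * v by group] at this
    obtain ⟨hv1, hv2⟩ := conj_tor hd a hv
    have h0 : eb B (v⁻¹ * (T * v * T⁻¹)) = 0 := by
      refine hV _ ?_ (mul_mem (inv_mem hv) hv1)
      rwa [show v⁻¹ * (T * v * T⁻¹) = v⁻¹ * T * v * T⁻¹ by group]
    rw [eb_prod hd (inv_mem hv) hv1, eb_inv hd hv, hv2, hvb, ← hεdef] at h0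
    refine mul_ne_zero hε' hε' ?_
    field_simp at h0
    linear_combination h0

end Cfsg.Lib.BinaryInv
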