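import Cfsg.Agent.BinaryInv.UBasic
import Cfsg.Agent.Classical.Unitary.Special
import Mathlib

/-!
The special unitary group is transitive on orthogonal pairs of unit vectors.
-/

set_option autoImplicit false
set_option linter.unusedSectionVars false
set_option linter.style.haveILetI false

open scoped LinearAlgebra.Projectivization

namespace Cfsg.Lib.BinaryInv

open Cfsg.Lib.Classical Cfsg.Lib.Components.UnitaryThree Cfsg.Lib.Known.PSUThree

universe u v

variable {F : Type u} [Field F] [Finite F] [CharP F 2] {V : Type v} [AddCommGroup V] [Module F V]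
  [FiniteDimensional F V] {H : HermSpace F V} (hd : Module.finrank F V = 3)

include hd

/-- A unit vector orthogonal to an orthogonal pair of unit vectors. -/
theorem exists_third {a b : V} (ha : H.h a a = 1) (hb : H.h b b = 1) (hab : H.h a b = 0) :
    ∃ c, H.h c c = 1 ∧ H.h c a = 0 ∧ H.h c b = 0 := by
  set W := Submodule.span F ({a, b} : Set V) with hW
  have hn : H.NondegOn W := by
    intro v hv h
    obtain ⟨p, q, rfl⟩ := Submodule.mem_span_pair.1 hv
    have h1 := h a (Submodule.subset_span (by simp))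
    have h2 := h b (Submodule.subset_span (by simp))
    simp only [H.add_right, H.smul_right, ha, hb, hab, H.eq_zero_symm hab, mul_zero, mul_one, add_zero,
      zero_add] at h1 h2
    rw [H.conj.eq_zero.1 h1, H.conj.eq_zero.1 h2, zero_smul, zero_smul, add_zero]
  haveI : Nontrivial (H.orth W) :=
    Module.nontrivial_of_finrank_pos (R := F) (by
      have h1 := H.finrank_orth W
      have h2 : Module.finrank F W ≤ 2 := by
        classical
        have h := finrank_span_le_card (R := F) ({a, b} : Set V)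
        have h' : ({a, b} : Set V).toFinset.card ≤ 2 := by
          rw [Set.toFinset_insert, Set.toFinset_singleton]
          exact (Finset.card_insert_le _ _).trans (by simp)
        exact h.trans h'
      omega)
  obtain ⟨c, hc⟩ := (H.restrict _ (H.nondegOn_orth hn)).exists_norm_one
  exact ⟨c, hc, c.2 a (Submodule.subset_span (by simp)), c.2 b (Submodule.subset_span (by simp))⟩

/-- An element sending the middle vector and a fixed unit vector orthogonal to it to a given pair. -/
theorem exists_from_frame (B : Frame H) {θ : F} (hθ : θ + H.σ θ = 1) {a b : V} (ha : H.h a a = 1)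
    (hb : H.h b b = 1) (hab : H.h a b = 0) :
    ∃ g : H.SIsom, g.1.1 B.w = a ∧ g.1.1 (B.e + θ • B.f) = b := by
  obtain ⟨c, hc, hca, hcb⟩ := exists_third hd ha hb hab
  have hba := H.eq_zero_symm hab
  have hac := H.eq_zero_symm hca
  have hbc := H.eq_zero_symm hcb
  have key : ∀ z : F, z * H.σ z = 1 → H.h (H.σ θ • b + (θ * z) • c) (H.σ θ • b + (θ * z) • c) = 0 ∧
      H.h (b + z • c) (b + z • c) = 0 ∧ H.h (H.σ θ • b + (θ * z) • c) (b + z • c) = 1 ∧
      H.h a (H.σ θ • b + (θ * z) • c) = 0 ∧ H.h a (b + z • c) = 0 := by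
    intro z hz
    refine ⟨?_, ?_, ?_, ?_, ?_⟩ <;>
      simp only [H.add_left, H.add_right, H.smul_left, H.smul_right, map_mul, H.conj.invol, hb, hc, hbc, hcb,
        hab, hac, mul_zero, mul_one, add_zero, zero_add]
    · linear_combination (θ * H.σ θ) * hz + (θ * H.σ θ) * two_eq (F := F)
    · linear_combination hz + two_eq (F := F)
    · linear_combination θ * hz + hθ
  obtain ⟨k1, k2, k3, k4, k5⟩ := key 1 (by rw [map_one, mul_one])
  obtain ⟨g₀, -, -, -, h₀⟩ := exists_isom hd B k1 ha k2 k3 k4 k5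
  set D : F := (H.detHom g₀ : F) with hD
  have hDN : D * H.σ D = 1 := congrArg Units.val (MonoidHom.mem_ker.1 (H.det_mem_norm_ker g₀))
  have hD0 : D ≠ 0 := left_ne_zero_of_mul_eq_one hDN
  obtain ⟨l1, l2, l3, l4, l5⟩ := key D⁻¹ (by rw [map_inv₀, ← mul_inv, hDN, inv_one])
  obtain ⟨g, h1, h2, h3⟩ := exists_elt hd B l1 ha l2 l3 l4 l5 (by
    refine Eq.trans ?_ (show D⁻¹ * D = 1 from inv_mul_cancel₀ hD0)
    rw [h₀]
    simp only [Matrix.det_fin_three, H.add_left, H.smul_left, Matrix.cons_val', Matrix.cons_val_zero,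
      Matrix.cons_val_one, Matrix.cons_val_two, Matrix.empty_val', Matrix.cons_val_fin_one, Matrix.head_cons,
      Matrix.tail_cons, Matrix.of_apply, Matrix.head_fin_const]
    ring)
  refine ⟨g, h2, ?_⟩
  rw [map_add, map_smul, h1, h3, smul_add, smul_smul]
  calc H.σ θ • b + (θ * D⁻¹) • c + (θ • b + (θ * D⁻¹) • c)
      = (θ + H.σ θ) • b + ((θ * D⁻¹) + θ * D⁻¹) • c := by module
    _ = b := by rw [hθ, one_smul, CharTwo.add_self_eq_zero, zero_smul, add_zero]

/-- Transitivity on orthogonal pairs of unit vectors. -/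
theorem exists_map_pair (B : Frame H) {a b a' b' : V} (ha : H.h a a = 1) (hb : H.h b b = 1)
    (hab : H.h a b = 0) (ha' : H.h a' a' = 1) (hb' : H.h b' b' = 1) (hab' : H.h a' b' = 0) :
    ∃ g : H.SIsom, g.1.1 a = a' ∧ g.1.1 b = b' := by
  obtain ⟨θ, hθ⟩ := H.conj.exists_trace_one
  obtain ⟨g, g1, g2⟩ := exists_from_frame hd B hθ ha hb hab
  obtain ⟨k, k1, k2⟩ := exists_from_frame hd B hθ ha' hb' hab'
  have e : ∀ {x y : V}, g.1.1 x = y → (g⁻¹).1.1 y = x := fun {x y} h => by
    rw [← h]; exact H.inv_apply_self g.1 x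
  exact ⟨k * g⁻¹, by rw [H.smul_mul_apply, e g1, k1], by rw [H.smul_mul_apply, e g2, k2]⟩

/-- An element fixing a unit vector and carrying one unit vector to another with the same product. -/
theorem exists_map_fix (B : Frame H) {p x y : V} {g : F} (hg : H.σ g = g) (hg1 : g ≠ 1) (hp : H.h p p = 1)
    (hx : H.h x x = 1) (hy : H.h y y = 1) (hxp : H.h x p = g) (hyp : H.h y p = g) :
    ∃ k : H.SIsom, k.1.1 p = p ∧ k.1.1 x = y := by
  have hk : (1 : F) + g ≠ 0 := fun e => hg1 ((eq_neg_of_add_eq_zero_right e).trans (CharTwo.neg_eq 1))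
  have key : ∀ z : V, H.h z z = 1 → H.h z p = g →
      H.h ((1 + g)⁻¹ • (z + g • p)) ((1 + g)⁻¹ • (z + g • p)) = 1 ∧ H.h p ((1 + g)⁻¹ • (z + g • p)) = 0 := by
    intro z hz hzp
    have hpz : H.h p z = g := by rw [H.symm, hzp, hg]
    simp only [H.add_left, H.add_right, H.smul_left, H.smul_right, map_inv₀, map_add, map_one, hg, hz, hzp,
      hpz, hp]
    constructor
    · field_simp
      linear_combination (g * g - g) * two_eq (F := F)
    · rw [mul_one, CharTwo.add_self_eq_zero, mul_zero]
  obtain ⟨k, k1, k2⟩ := exists_map_pair hd B hp (key x hx hxp).1 (key x hx hxp).2 hp (key y hy hyp).1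
    (key y hy hyp).2
  refine ⟨k, k1, ?_⟩
  rw [map_smul, map_add, map_smul, k1] at k2
  exact add_right_cancel (smul_right_injective V (inv_ne_zero hk) k2)

end Cfsg.Lib.BinaryInv
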