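import Cfsg.Agent.BinaryInv.UBlock
import Cfsg.Agent.BinaryInv.UPair
import Mathlib

/-!
A proper subgroup containing the root groups of two points does not give a binary action.
-/

set_option autoImplicit false
set_option linter.unusedSectionVars false
set_option linter.style.haveILetI false

open scoped LinearAlgebra.Projectivization

namespace Cfsg.Lib.BinaryInv

open Cfsg.Lib.Classical Cfsg.Lib.Components.UnitaryThree Cfsg.Lib.Known.PSUThree Cfsg.Lib.Suz.Binary

universe u v

variable {F : Type u} [Field F] [Finite F] [CharP F 2] {V : Type v} [AddCommGroup V] [Module F V]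
  [FiniteDimensional F V] {H : HermSpace F V} (hd : Module.finrank F V = 3)
  {K : Subgroup H.SIsom} {B : Frame H}
  (hRe : H.rootGroup B.ee ≤ K) (hRf : H.rootGroup B.ff ≤ K)

include hd

theorem w_ne' (B : Frame H) : B.w ≠ 0 := fun h => by
  have := B.ww
  rw [h, H.zero_left] at this
  exact zero_ne_one this

theorem root_conj_le {v : V} (hv : H.h v v = 0) (hle : H.rootGroup hv ≤ K) {g : H.SIsom} (hg : g ∈ K)
    {x : V} (hx : g.1.1 v = x) (hxx : H.h x x = 0) : H.rootGroup hxx ≤ K := by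
  intro k hk
  obtain ⟨c, hc, e⟩ := hk
  have h : k = g * H.sT hv hc * g⁻¹ := by
    rw [H.sT_conj, H.sT_congr _ hxx hc hc hx rfl]
    exact Subtype.ext e
  rw [h]
  exact mul_mem (mul_mem hg (hle ⟨c, hc, rfl⟩)) (inv_mem hg)

include hRe hRf in
theorem sl_nonzero {p r s t : F} (hp : H.σ p = p) (hs : H.σ s = s) (ht : H.σ t = t) (hdet : p * t + r * s = 1)
    (hs0 : s ≠ 0) {g : H.SIsom} (he : g.1.1 B.e = p • B.e + s • B.f) (hw : g.1.1 B.w = B.w)
    (hf : g.1.1 B.f = r • B.e + t • B.f) : g ∈ K := by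
  obtain ⟨x, hxR, hx1, -, -, hxw, hxf⟩ := exists_root hd B (c := (p + 1) / s)
    (by rw [map_div₀, map_add, map_one, hp, hs])
  obtain ⟨y, hyR, hy1, -, -, hyw, hyf⟩ := exists_root hd B (c := (t + 1) / s)
    (by rw [map_div₀, map_add, map_one, ht, hs])
  obtain ⟨l, hlR, hl1, -, -, hlw, hlf⟩ := exists_root hd (swapFrame B) (c := s) hs
  change l.1.1 B.e = s • B.f + B.e at hlf
  change l.1.1 B.w = B.w at hlw
  have hlfix : l.1.1 B.f = B.f := hl1
  have hxe : x.1.1 B.e = B.e := hx1
  have hye : y.1.1 B.e = B.e := hy1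
  have e : g = x * l * y := by
    refine ext_lin hd B ?_ ?_ ?_
    · rw [he, H.smul_mul_apply, hye, H.smul_mul_apply, hlf, map_add, map_smul, hxe, hxf, smul_add, smul_smul,
        mul_div_cancel₀ _ hs0]
      match_scalars
      all_goals first
        | ring1
        | linear_combination two_eq (F := F)
        | linear_combination (-1 : F) * two_eq (F := F)
    · rw [hw, H.smul_mul_apply, hyw, H.smul_mul_apply, hlw, hxw]
    · have hk : ((t + 1) / s * s + 1 : F) = t := by
        rw [div_mul_cancel₀ _ hs0, add_assoc, CharTwo.add_self_eq_zero, add_zero]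
      have hk' : ((t + 1) / s * (s * ((p + 1) / s) + 1) + (p + 1) / s : F) = r := by
        rw [mul_div_cancel₀ _ hs0]
        field_simp
        linear_combination hdet + (p + t + 2 - r * s) * two_eq (F := F)
      rw [hf, H.smul_mul_apply, hyf, H.smul_mul_apply, map_add, map_smul, hlf, hlfix, map_add, map_smul, map_add,
        map_smul, hxe, hxf]
      calc r • B.e + t • B.f = ((t + 1) / s * (s * ((p + 1) / s) + 1) + (p + 1) / s) • B.e
            + ((t + 1) / s * s + 1) • B.f := by rw [hk, hk']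
        _ = _ := by module
  rw [e]
  exact mul_mem (mul_mem (hRe hxR) (hRf hlR)) (hRe hyR)

include hRe hRf in
/-- The elements fixing the middle vector lie in the subgroup. -/
theorem mem_of_fix_w {g : H.SIsom} (hw : g.1.1 B.w = B.w) : g ∈ K := by
  set p := H.h (g.1.1 B.e) B.f
  set s := H.h (g.1.1 B.e) B.e
  set r := H.h (g.1.1 B.f) B.f
  set t := H.h (g.1.1 B.f) B.e
  have hwe : H.h (g.1.1 B.e) B.w = 0 := by
    conv_lhs => rw [← hw, H.map_form, B.ew]
  have hwf : H.h (g.1.1 B.f) B.w = 0 := by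
    conv_lhs => rw [← hw, H.map_form, B.fw]
  have he : g.1.1 B.e = p • B.e + s • B.f := by
    conv_lhs => rw [decomp hd B (g.1.1 B.e), hwe, zero_smul, add_zero]
  have hf : g.1.1 B.f = r • B.e + t • B.f := by
    conv_lhs => rw [decomp hd B (g.1.1 B.f), hwf, zero_smul, add_zero]
  have hform := H.map_form g.1
  have h1 := hform B.e B.e
  have h2 := hform B.f B.f
  have h3 := hform B.e B.f
  have h4 := det_frame hd B g.1.1.toLinearMap
  rw [det_one g] at h4
  simp only [LinearEquiv.coe_coe] at h4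
  rw [he, hw, hf] at h4
  rw [he] at h1 h3
  rw [hf] at h2 h3
  simp [H.add_left, H.add_right, H.smul_left, H.smul_right, B.ee, B.ff, B.ef, B.fe] at h1 h2 h3
  simp [Matrix.det_fin_three, H.add_left, H.smul_left, B.ee, B.ff, B.ef, B.fe, B.ww, B.we, B.wf, B.ew,
    B.fw] at h4
  have hdet : p * t + r * s = 1 := by linear_combination -h4 + (r * s) * two_eq (F := F)
  have h3' : H.σ p * t + H.σ s * r = 1 := by
    have h := congrArg H.σ h3
    simp only [map_add, map_mul, map_one, H.conj.invol] at h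
    linear_combination h
  have ht : H.σ t = t := by
    linear_combination t * h3 - H.σ t * hdet - s * h2 + (r * s * H.σ t) * two_eq (F := F)
  have hp : H.σ p = p := by
    linear_combination p * h3' - H.σ p * hdet - r * h1 + (r * s * H.σ p) * two_eq (F := F)
  have hs : H.σ s = s := by
    linear_combination s * h3' - H.σ s * hdet - t * h1 + (p * t * H.σ s) * two_eq (F := F)
  have hr : H.σ r = r := by
    linear_combination r * h3 - H.σ r * hdet - p * h2 + (p * t * H.σ r) * two_eq (F := F)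
  rcases eq_or_ne s 0 with hs0 | hs0
  · obtain ⟨l, hlR, hl1, -, -, hlw, hlf⟩ := exists_root hd (swapFrame B) (c := (1 : F)) (map_one _)
    change l.1.1 B.e = (1 : F) • B.f + B.e at hlf
    change l.1.1 B.w = B.w at hlw
    have hlfix : l.1.1 B.f = B.f := hl1
    have hlg : l * g ∈ K := by
      refine sl_nonzero hd hRe hRf (p := p) (r := r) (s := p) (t := r + t) hp hp (by rw [map_add, hr, ht]) ?_ ?_ ?_ ?_ ?_
      · rw [hs0] at hdet
        linear_combination hdet + (p * r) * two_eq (F := F)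
      · intro hp0
        rw [hs0, hp0, zero_mul, mul_zero, add_zero] at hdet
        exact zero_ne_one hdet
      · rw [H.smul_mul_apply, he, hs0, zero_smul, add_zero, map_smul, hlf]
        module
      · rw [H.smul_mul_apply, hw, hlw]
      · rw [H.smul_mul_apply, hf, map_add, map_smul, map_smul, hlf, hlfix]
        module
    have := mul_mem (inv_mem (hRf hlR)) hlg
    rwa [inv_mul_cancel_left] at this
  · exact sl_nonzero hd hRe hRf hp hs ht hdet hs0 he hw hf

include hRe hRf in
theorem mid_of_off {x : V} (hxx : H.h x x = 0) (hxe : H.h x B.e = 1) (hRx : H.rootGroup hxx ≤ K)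
    (hq : 4 ≤ H.q) {s : F} (hs : H.σ s = s) : s * H.σ (H.h x B.w) ∈ midSet K B := by
  classical
  obtain ⟨u, hu, huf, hub⟩ := exists_unip hd B hxx hxe
  rcases eq_or_ne s 0 with rfl | hs0
  · exact ⟨1, one_mem _, one_mem _, by rw [(eb_one B).1, zero_mul]⟩
  obtain ⟨l, hlσ, hl0, hl1⟩ : ∃ l : F, H.σ l = l ∧ l ≠ 0 ∧ l ≠ 1 := by
    by_contra! h
    have hsub : Nat.card (fixedField H.σ) ≤ 2 := by
      have hinj : Function.Injective (fun a : fixedField H.σ => decide ((a : F) = 0)) := by
        rintro ⟨a, ha⟩ ⟨b, hb⟩ hab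
        by_cases ha0 : a = 0
        · simp [ha0] at hab; exact Subtype.ext (ha0.trans hab.symm)
        · simp [ha0] at hab
          exact Subtype.ext ((h a ha ha0).trans (h b hb hab).symm)
      simpa using Nat.card_le_card_of_injective _ hinj
    have : H.q ≤ 2 := hsub
    omega
  have tor_mem_K : ∀ (C : Frame H), H.rootGroup C.ee ≤ K → H.rootGroup C.ff ≤ K → ∀ a : Fˣ,
      H.σ (a : F) = a → tor hd C a ∈ K := fun C h1 h2 a ha => mem_of_fix_w hd h1 h2 (by
    rw [tor_w, ha, div_self a.ne_zero, one_smul])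
  let C : Frame H := mapFrame u B
  have hCe : H.rootGroup C.ee ≤ K := by
    have h : pt C = pt B := pt_eq_iff.2 ⟨1, one_ne_zero, by rw [one_smul]; exact hu⟩
    rw [root_congr h]
    exact hRe
  have hCf : H.rootGroup C.ff ≤ K := (H.rootGroup_congr C.ff hxx huf).le.trans hRx
  set a := Units.mk0 l hl0
  have hch : ∀ c : Fˣ, H.σ (c : F) = c → ch H c = c := fun c hc => by
    rw [ch, hc, pow_two, mul_div_assoc, div_self c.ne_zero, mul_one]
  have hconj : tor hd C a = u * tor hd B a * u⁻¹ := by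
    have hi : ∀ y, (u⁻¹).1.1 (u.1.1 y) = y := fun y => H.inv_apply_self u.1 y
    refine ext_lin hd C ?_ ?_ ?_
    · rw [tor_e]
      show (a : F) • u.1.1 B.e = (u * tor hd B a * u⁻¹).1.1 (u.1.1 B.e)
      rw [H.smul_mul_apply, hi, H.smul_mul_apply, tor_e, map_smul]
    · rw [tor_w]
      show (H.σ (a : F) / a) • u.1.1 B.w = (u * tor hd B a * u⁻¹).1.1 (u.1.1 B.w)
      rw [H.smul_mul_apply, hi, H.smul_mul_apply, tor_w, map_smul]
    · rw [tor_f]
      show (H.σ (a : F))⁻¹ • u.1.1 B.f = (u * tor hd B a * u⁻¹).1.1 (u.1.1 B.f)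
      rw [H.smul_mul_apply, hi, H.smul_mul_apply, tor_f, map_smul]
  obtain ⟨h1, h2⟩ := conj_tor hd a (inv_mem hu)
  set p := tor hd C a * (tor hd B a)⁻¹ with hp
  have hpK : p ∈ K := mul_mem (tor_mem_K C hCe hCf a hlσ) (inv_mem (tor_mem_K B hRe hRf a hlσ))
  have hpe : p = u * (tor hd B a * u⁻¹ * (tor hd B a)⁻¹) := by rw [hp, hconj]; group
  have hpb : eb B p = (1 + l) * H.σ (H.h x B.w) := by
    rw [hpe, eb_prod hd hu h1, h2, eb_inv hd hu, hub, hch a hlσ]
    show _ + l * _ = _
    ring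
  have hl1' : (1 : F) + l ≠ 0 := fun e => hl1 ((eq_neg_of_add_eq_zero_right e).trans (CharTwo.neg_eq 1))
  set c := Units.mk0 (s / (1 + l)) (div_ne_zero hs0 hl1')
  have hcσ : H.σ (c : F) = c := by
    show H.σ (s / (1 + l)) = s / (1 + l)
    rw [map_div₀, map_add, map_one, hs, hlσ]
  have hpf : p ∈ fixE B := hpe ▸ mul_mem hu h1
  refine ⟨_, mul_mem (mul_mem (tor_mem_K B hRe hRf c hcσ) hpK) (inv_mem (tor_mem_K B hRe hRf c hcσ)),
    (conj_tor hd c hpf).1, ?_⟩
  rw [(conj_tor hd c hpf).2, hch c hcσ, hpb]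
  show s / (1 + l) * _ = _
  field_simp

include hRe hRf in
theorem map_w (hq : 4 ≤ H.q) (hH : K ≠ ⊤) {g : H.SIsom} (hg : g ∈ K) : ∃ μ : F, g.1.1 B.w = μ • B.w := by
  classical
  have hplane : ∀ x : V, ∀ hxx : H.h x x = 0, H.h x B.e ≠ 0 → H.rootGroup hxx ≤ K → H.h x B.w = 0 := by
    intro x hxx hc hx
    by_contra hβ
    obtain ⟨y, hy⟩ : ∃ y, y = (H.h x B.e)⁻¹ • x := ⟨_, rfl⟩
    have hyy : H.h y y = 0 := by rw [hy, H.smul_left, H.smul_right, hxx, mul_zero, mul_zero]
    have hye : H.h y B.e = 1 := by rw [hy, H.smul_left, inv_mul_cancel₀ hc]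
    have hRy : H.rootGroup hyy ≤ K := (H.rootGroup_eq_of_smul hxx hyy (inv_ne_zero hc) hy).le.trans hx
    set α := H.h y B.f with hα
    set β := H.h y B.w with hβdef
    have hβ0 : β ≠ 0 := by
      rw [hβdef, hy, H.smul_left]
      exact mul_ne_zero (inv_ne_zero hc) hβ
    have hdy := decomp hd B y
    rw [hye, one_smul] at hdy
    have hTr : α + H.σ α + β * H.σ β = 0 := by
      have h := hyy
      rw [hdy] at h
      simp [H.add_left, H.add_right, H.smul_left, H.smul_right, B.ee, B.ff, B.ef, B.fe, B.ww, B.we, B.wf,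
        B.ew, B.fw] at h
      linear_combination h
    have hασ : H.σ α ≠ α := fun e => by
      rw [e, CharTwo.add_self_eq_zero, zero_add] at hTr
      exact mul_ne_zero hβ0 ((map_ne_zero _).2 hβ0) hTr
    have hα0 : α ≠ 0 := fun e => hασ (by rw [e, map_zero])
    obtain ⟨s, hse, hsw, hsf⟩ := exists_swap hd B
    have hsK : s ∈ K := mem_of_fix_w hd hRe hRf hsw
    obtain ⟨z, hz⟩ : ∃ z, z = α⁻¹ • s.1.1 y := ⟨_, rfl⟩
    have hsy0 : H.h (s.1.1 y) (s.1.1 y) = 0 := by rw [H.map_form, hyy]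
    have hzz : H.h z z = 0 := by rw [hz, H.smul_left, H.smul_right, hsy0, mul_zero, mul_zero]
    have hze : H.h z B.e = 1 := by
      rw [hz, H.smul_left, ← hsf, H.map_form, ← hα, inv_mul_cancel₀ hα0]
    have hzw : H.h z B.w = α⁻¹ * β := by
      rw [hz, H.smul_left]
      conv_lhs => rw [← hsw, H.map_form]
    have hRz : H.rootGroup hzz ≤ K :=
      (H.rootGroup_eq_of_smul hsy0 hzz (inv_ne_zero hα0) hz).le.trans (root_conj_le hd hyy hRy hsK rfl hsy0)
    have hall : ∀ b : F, b ∈ midSet K B := by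
      intro b
      have hρ : (H.σ α)⁻¹ + α⁻¹ ≠ 0 := fun e => hασ
        (inv_injective ((eq_neg_of_add_eq_zero_left e).trans (CharTwo.neg_eq _)))
      set w := b / H.σ β with hw
      set t := (w + H.σ w) / ((H.σ α)⁻¹ + α⁻¹) with ht
      have hts : H.σ t = t := by
        rw [ht, map_div₀, H.conj.trace_mem, map_add, map_inv₀, map_inv₀, H.conj.invol, add_comm α⁻¹]
      have htd : t * ((H.σ α)⁻¹ + α⁻¹) = w + H.σ w := div_mul_cancel₀ _ hρ
      have hus : H.σ (w + t * (H.σ α)⁻¹) = w + t * (H.σ α)⁻¹ := by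
        rw [map_add, map_mul, hts, map_inv₀, H.conj.invol]
        linear_combination htd + (H.σ w - t * (H.σ α)⁻¹) * two_eq (F := F)
      have e : b = (w + t * (H.σ α)⁻¹) * H.σ β + t * H.σ (H.h z B.w) := by
        have e1 : w * H.σ β = b := div_mul_cancel₀ b ((map_ne_zero _).2 hβ0)
        rw [hzw, map_mul, map_inv₀]
        linear_combination (-1 : F) * e1 - (t * (H.σ α)⁻¹ * H.σ β) * two_eq (F := F)
      rw [e]
      exact midSet_add hd (mid_of_off hd hRe hRf hyy hye hRy hq hus)
        (mid_of_off hd hRe hRf hzz hze hRz hq hts)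
    apply hH
    rw [eq_top_iff, ← (H.unitaryIwasawa (Or.inr ⟨hd, by omega⟩)).is_generator]
    refine iSup_le fun p => ?_
    induction p using H.isoPt_ind with | h v hv hvv => ?_
    show H.rootGroup (H.isoMk v hv hvv).2 ≤ K
    obtain ⟨a, ha⟩ := Projectivization.exists_smul_eq_mk_rep F v hv
    rw [H.rootGroup_eq_of_smul hvv (H.isoMk v hv hvv).2 a.ne_zero (by rw [← Units.smul_def, ha]; rfl)]
    by_cases hγ : H.h v B.e = 0
    · have hdv := decomp hd B v
      rw [hγ, zero_smul, add_zero] at hdv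
      have hb : H.h v B.w = 0 := by
        have h := hvv
        rw [hdv] at h
        simpa [H.add_left, H.add_right, H.smul_left, H.smul_right, B.ee, B.ww, B.we, B.ew] using h
      rw [hb, zero_smul, add_zero] at hdv
      have hα' : H.h v B.f ≠ 0 := fun e => hv (by rw [hdv, e, zero_smul])
      exact (H.rootGroup_eq_of_smul B.ee hvv hα' hdv).le.trans hRe
    · have hvv' : H.h ((H.h v B.e)⁻¹ • v) ((H.h v B.e)⁻¹ • v) = 0 := by
        rw [H.smul_left, H.smul_right, hvv, mul_zero, mul_zero]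
      obtain ⟨u, hu, huf, -⟩ := exists_unip hd B hvv' (by rw [H.smul_left, inv_mul_cancel₀ hγ])
      have h := root_conj_le hd B.ff hRf (mem_of_mid hd hRe hu (hall _)) huf hvv'
      rwa [H.rootGroup_eq_of_smul hvv hvv' (inv_ne_zero hγ) rfl] at h
  have hzero : ∀ v : V, ∀ hv : H.h v v = 0, H.rootGroup hv ≤ K → H.h (g.1.1 v) B.w = 0 := by
    intro v hv hR
    by_contra h0
    by_cases hc : H.h (g.1.1 v) B.e = 0
    · have hd1 := decomp hd B (g.1.1 v)
      rw [hc, zero_smul, add_zero] at hd1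
      have h : H.h (g.1.1 v) (g.1.1 v) = 0 := by rw [H.map_form, hv]
      rw [hd1] at h
      simp [H.add_left, H.add_right, H.smul_left, H.smul_right, B.ee, B.ww, B.we, B.ew] at h
      exact h0 h
    · exact h0 (hplane _ (by rw [H.map_form, hv]) hc (root_conj_le hd hv hR hg rfl _))
  have hi : ∀ v : V, H.h (g.1.1 v) B.w = 0 → H.h ((g⁻¹).1.1 B.w) v = 0 := fun v h => by
    rw [← H.map_form g.1, show g.1.1 ((g⁻¹).1.1 B.w) = B.w from H.apply_inv_self g.1 _]
    exact H.eq_zero_symm h
  have hdw := decomp hd B ((g⁻¹).1.1 B.w)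
  rw [hi _ (hzero B.e B.ee hRe), hi _ (hzero B.f B.ff hRf), zero_smul, zero_smul, zero_add, add_zero] at hdw
  set μ := H.h ((g⁻¹).1.1 B.w) B.w
  have hμ : μ ≠ 0 := fun e => by
    rw [e, zero_smul] at hdw
    exact H.isom_ne_zero (g⁻¹).1 (w_ne' hd B) hdw
  refine ⟨μ⁻¹, ?_⟩
  have h := congrArg g.1.1 hdw
  rw [show g.1.1 ((g⁻¹).1.1 B.w) = B.w from H.apply_inv_self g.1 _, map_smul] at h
  conv_rhs => rw [h, smul_smul, inv_mul_cancel₀ hμ, one_smul]

include hRe hRf in
/-- A proper subgroup containing two root groups does not give a binary action. -/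
theorem not_bin_chord (hq : 4 ≤ H.q) (hH : K ≠ ⊤) : ¬ Bin K := by
  classical
  obtain ⟨g, hgσ, hg0, hg1⟩ : ∃ g : F, H.σ g = g ∧ g ≠ 0 ∧ g ≠ 1 := by
    by_contra! h
    have hinj : Function.Injective (fun a : fixedField H.σ => decide ((a : F) = 0)) := by
      rintro ⟨a, ha⟩ ⟨b, hb⟩ hab
      by_cases ha0 : a = 0
      · simp [ha0] at hab; exact Subtype.ext (ha0.trans hab.symm)
      · simp [ha0] at hab
        exact Subtype.ext ((h a ha ha0).trans (h b hb hab).symm)
    have h2 : H.q ≤ 2 := (Nat.card_le_card_of_injective _ hinj).trans (by simp)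
    omega
  obtain ⟨θ, hθ⟩ := H.conj.exists_trace_one
  have hk : (1 : F) + g ≠ 0 := fun e => hg1 ((eq_neg_of_add_eq_zero_right e).trans (CharTwo.neg_eq 1))
  set n := B.e + θ • B.f with hn
  set m := B.e + H.σ θ • B.f with hm
  have hww := B.ww
  have hnn : H.h n n = 1 := by
    simp [hn, H.add_left, H.add_right, H.smul_left, H.smul_right, B.ee, B.ff, B.ef, B.fe]
    linear_combination hθ
  have hmm : H.h m m = 1 := by
    simp [hm, H.add_left, H.add_right, H.smul_left, H.smul_right, B.ee, B.ff, B.ef, B.fe, H.conj.invol]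
    linear_combination hθ
  have hnm : H.h n m = 0 := by
    simp [hm, hn, H.add_left, H.add_right, H.smul_left, H.smul_right, B.ee, B.ff, B.ef, B.fe, H.conj.invol]
    linear_combination θ * two_eq (F := F)
  have hmn := H.eq_zero_symm hnm
  have hnw : H.h n B.w = 0 := by simp [hn, H.add_left, H.smul_left, B.ew, B.fw]
  have hmw : H.h m B.w = 0 := by simp [hm, H.add_left, H.smul_left, B.ew, B.fw]
  have hwn := H.eq_zero_symm hnw
  have hwm := H.eq_zero_symm hmw
  set p := g • B.w + (1 + g) • n with hp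
  have hh : ∀ a b c a' b' c' : F, H.h (a • B.w + b • n + c • m) (a' • B.w + b' • n + c' • m) =
      a * H.σ a' + b * H.σ b' + c * H.σ c' := fun a b c a' b' c' => by
    simp only [H.add_left, H.add_right, H.smul_left, H.smul_right, hww, hnn, hmm, hnm, hmn, hnw, hmw, hwn, hwm]
    ring
  have hp' : p = g • B.w + (1 + g) • n + (0 : F) • m := by rw [zero_smul, add_zero]
  have hw' : B.w = (1 : F) • B.w + (0 : F) • n + (0 : F) • m := by simp
  have hk' : H.σ (1 + g) = 1 + g := by rw [map_add, map_one, hgσ]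
  have hpp : H.h p p = 1 := by
    rw [hp', hh, map_zero, hgσ, hk']
    linear_combination (g * g + g) * two_eq (F := F)
  set x := g • B.w + g • n + (1 : F) • m with hx
  have hxx : H.h x x = 1 := by
    rw [hx, hh, map_one, hgσ]
    linear_combination (g * g) * two_eq (F := F)
  have hwp : H.h B.w p = g := by
    conv_lhs => rw [hw', hp', hh]
    rw [hgσ]; simp
  have hxw : H.h x B.w = g := by
    rw [hx]
    simp [H.add_left, H.smul_left, hww, hnw, hmw]
  have hxp : H.h x p = g := by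
    rw [hx, hp', hh, hgσ, hk']
    simp
    linear_combination (g * g) * two_eq (F := F)
  obtain ⟨k₀, hk₀, ζ, hζ, hζN, hcase⟩ : ∃ k₀ ∈ K, ∃ ζ : F, k₀.1.1 B.w = ζ • B.w ∧ ζ * H.σ ζ = 1 ∧
      (ζ ≠ 1 ∨ (ζ = 1 ∧ ∀ k ∈ K, k.1.1 B.w = B.w)) := by
    by_cases h : ∀ k ∈ K, k.1.1 B.w = B.w
    · exact ⟨1, one_mem _, 1, (one_smul F B.w).symm, by rw [map_one, mul_one], Or.inr ⟨rfl, h⟩⟩
    · push Not at h
      obtain ⟨k, hkK, hkne⟩ := h
      obtain ⟨μ, hμ⟩ := map_w hd hRe hRf hq hH hkK
      refine ⟨k, hkK, μ, hμ, ?_, Or.inl fun e => hkne (by rw [hμ, e, one_smul])⟩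
      have h1 := H.map_form k.1 B.w B.w
      rw [hμ, H.smul_left, H.smul_right, hww, mul_one] at h1
      exact h1
  have hζ0 : ζ ≠ 0 := left_ne_zero_of_mul_eq_one hζN
  -- the second vector
  obtain ⟨y₂, y₃, hy1, hy2, hy3⟩ : ∃ y₂ y₃ : F, g * g + y₂ * H.σ y₂ + y₃ * H.σ y₃ = 1 ∧
      g * g + (1 + g) * y₂ = ζ * g ∧ (ζ = 1 → y₃ ≠ 1) := by
    rcases hcase with h | ⟨h, -⟩
    · obtain ⟨y₂, hy₂⟩ : ∃ y₂, (1 + g) * y₂ = ζ * g + g * g := ⟨_, mul_div_cancel₀ _ hk⟩
      obtain ⟨y₃, hy₃⟩ := H.conj.norm_surjective (a := 1 + g * g + y₂ * H.σ y₂)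
        (by simp only [map_add, map_one, map_mul, hgσ, H.conj.invol]; ring)
      exact ⟨y₂, y₃, by linear_combination hy₃ + (g * g + y₂ * H.σ y₂) * two_eq (F := F),
        by linear_combination hy₂ + (g * g) * two_eq (F := F), fun e => absurd e h⟩
    · obtain ⟨b, hb⟩ := H.conj.ne_id
      have hb0 : b ≠ 0 := fun e => hb (by rw [e, map_zero])
      refine ⟨g, H.σ b / b, ?_, ?_, fun _ e => hb ((div_eq_one_iff_eq hb0).1 e)⟩
      · rw [map_div₀, H.conj.invol, hgσ]
        have hσb : H.σ b ≠ 0 := (map_ne_zero _).2 hb0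
        field_simp
        linear_combination (g * g) * two_eq (F := F)
      · rw [h]
        linear_combination (g * g) * two_eq (F := F)
  set y := g • B.w + y₂ • n + y₃ • m with hy
  have hyy : H.h y y = 1 := by rw [hy, hh, hgσ]; exact hy1
  have hyw : H.h y B.w = g := by
    rw [hy]
    simp [H.add_left, H.smul_left, hww, hnw, hmw]
  have hyp : H.h y p = ζ * g := by
    rw [hy, hp', hh, hgσ, hk', map_zero, mul_zero, add_zero]
    linear_combination hy2
  obtain ⟨a, haw, hax⟩ := exists_map_fix hd B hgσ hg1 hww hxx hyy hxw hyw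
  obtain ⟨b, hbp, hbx⟩ := exists_map_fix hd B (y := ζ⁻¹ • y) hgσ hg1 hpp hxx
    (by rw [H.smul_left, H.smul_right, hyy, mul_one, map_inv₀, ← mul_inv, hζN, inv_one]) hxp
    (by rw [H.smul_left, hyp, inv_mul_cancel_left₀ hζ0])
  obtain ⟨s₂, hs₂, -⟩ := exists_from_frame hd B hθ hpp (b := (1 + g) • B.w + g • n + (0 : F) • m)
    (by rw [hh, map_zero, hgσ, hk']; linear_combination (g * g + g) * two_eq (F := F))
    (by rw [hp', hh, map_zero, hgσ, hk']; linear_combination ((1 + g) * g) * two_eq (F := F))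
  have hwx : H.h B.w x = g := by rw [H.symm, hxw, hgσ]
  obtain ⟨s₃, hs₃, -⟩ := exists_from_frame hd B hθ hxx (b := (1 + g)⁻¹ • (B.w + g • x))
    (by
      simp only [H.add_left, H.add_right, H.smul_left, H.smul_right, map_inv₀, hk', hgσ, hww, hxx, hxw, hwx]
      field_simp
      linear_combination (g * g - g) * two_eq (F := F))
    (by
      simp only [H.add_right, H.smul_right, map_inv₀, hk', hgσ, hxx, hxw, mul_one, CharTwo.add_self_eq_zero,
        mul_zero])
  have hinv : ∀ (k : H.SIsom) {u v : V}, k.1.1 u = v → (k⁻¹).1.1 v = u := fun k u v h => by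
    rw [← h]; exact H.inv_apply_self k.1 u
  refine not_bin_blocks K {1} {s₂} {s₃} a b ?_ ?_ ?_ ?_
  · rintro _ rfl
    simpa using mem_of_fix_w hd hRe hRf haw
  · intro k hk
    rw [show k = s₂ from hk]
    refine mem_of_fix_w hd hRe hRf ?_
    rw [H.smul_mul_apply, H.smul_mul_apply, hs₂, hbp, hinv _ hs₂]
  · intro k hk
    rw [show k = s₃ from hk]
    set d := s₃⁻¹ * (a⁻¹ * b) * s₃ with hd'
    have hdw : d.1.1 B.w = ζ⁻¹ • B.w := by
      rw [hd', H.smul_mul_apply, H.smul_mul_apply, hs₃, H.smul_mul_apply, hbx, map_smul, hinv _ hax, map_smul,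
        hinv _ hs₃]
    have h1 : k₀ * d ∈ K := mem_of_fix_w hd hRe hRf (by
      rw [H.smul_mul_apply, hdw, map_smul, hζ, smul_smul, inv_mul_cancel₀ hζ0, one_smul])
    simpa using mul_mem (inv_mem hk₀) h1
  · intro d h1 h2 h3
    have hdK : d ∈ K := by simpa using h1 1 rfl
    obtain ⟨μ, hμ⟩ := map_w hd hRe hRf hq hH hdK
    obtain ⟨ν, hν⟩ := map_w hd hRe hRf hq hH (h2 s₂ rfl)
    have hdp : d.1.1 p = ν • p := by
      have h := congrArg s₂.1.1 hν
      rw [map_smul, ← H.smul_mul_apply, mul_assoc, mul_inv_cancel_left, H.smul_mul_apply, hs₂] at h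
      exact h
    obtain ⟨κ, hκ⟩ := map_w hd hRe hRf hq hH (h3 s₃ rfl)
    have hyx : y = κ • d.1.1 x := by
      have h : (d⁻¹ * a).1.1 x = κ • x := by
        calc (d⁻¹ * a).1.1 x = (s₃ * (s₃⁻¹ * (d⁻¹ * a) * s₃)).1.1 B.w := by
              rw [show s₃ * (s₃⁻¹ * (d⁻¹ * a) * s₃) = (d⁻¹ * a) * s₃ by group,
                H.smul_mul_apply (d⁻¹ * a) s₃, hs₃]
          _ = κ • x := by rw [H.smul_mul_apply s₃, hκ, map_smul, hs₃]
      rw [H.smul_mul_apply, hax] at h
      have h' := congrArg d.1.1 h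
      rwa [map_smul, ← H.smul_mul_apply, mul_inv_cancel,
        show ((1 : H.SIsom)).1.1 y = y from rfl] at h'
    have eν : ν * H.σ ν = 1 := by
      have h := H.map_form d.1 p p
      rwa [hdp, H.smul_left, H.smul_right, hpp, mul_one] at h
    have eμν : μ = ν := by
      have h := H.map_form d.1 B.w p
      rw [hμ, hdp, H.smul_left, H.smul_right, hwp] at h
      have h' : μ * H.σ ν = 1 := by
        have := mul_right_cancel₀ hg0 (show μ * H.σ ν * g = 1 * g by rw [one_mul, mul_assoc, h])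
        exact this
      linear_combination (-μ) * eν + ν * h'
    have hN : ∀ z : V, H.h y (d.1.1 z) = κ * H.h x z := fun z => by
      rw [hyx, H.smul_left, H.map_form]
    have e1 : H.σ μ = κ := by
      have h := hN B.w
      rw [hμ, H.smul_right, hyw, hxw] at h
      exact mul_right_cancel₀ hg0 h
    have e2 : ζ = 1 := by
      have h := hN p
      rw [hdp, H.smul_right, hyp, hxp, ← e1, ← eμν] at h
      have h' : H.σ μ * (ζ * g) = H.σ μ * (1 * g) := by rw [h, one_mul]
      have hσμ : H.σ μ ≠ 0 := by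
        rw [eμν]
        exact right_ne_zero_of_mul_eq_one eν
      exact mul_right_cancel₀ hg0 (mul_left_cancel₀ hσμ h')
    rcases hcase with h | ⟨-, hfix⟩
    · exact h e2
    have hμ1 : μ = 1 := by
      have h := hfix d hdK
      rw [hμ] at h
      exact smul_left_injective F (w_ne' hd B) (h.trans (one_smul F B.w).symm)
    have hκ1 : κ = 1 := by rw [← e1, hμ1, map_one]
    have hdw : d.1.1 B.w = B.w := hfix d hdK
    have hdn : d.1.1 n = n := by
      have h : d.1.1 p = p := by rw [hdp, ← eμν, hμ1, one_smul]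
      rw [hp, map_add, map_smul, map_smul, hdw] at h
      exact smul_right_injective V hk (add_left_cancel h)
    -- `d` fixes the third vector as its determinant is one
    have hdm1 : H.h (d.1.1 m) B.w = 0 := by
      conv_lhs => rw [← hdw, H.map_form, hmw]
    have hdm2 : H.h (d.1.1 m) n = 0 := by
      conv_lhs => rw [← hdn, H.map_form, hmn]
    set δ := H.h (d.1.1 m) B.f
    have hdm : d.1.1 m = δ • m := by
      rw [hn, H.add_right, H.smul_right] at hdm2
      conv_lhs => rw [decomp hd B (d.1.1 m)]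
      rw [hdm1, (eq_neg_of_add_eq_zero_left hdm2).trans (CharTwo.neg_eq _), hm]
      module
    have hef : B.e = H.σ θ • n + θ • m ∧ B.f = n + m := by
      constructor <;> rw [hn, hm] <;> match_scalars
      all_goals first
        | ring1
        | linear_combination two_eq (F := F)
        | linear_combination (-1 : F) * two_eq (F := F)
        | linear_combination hθ
        | linear_combination (-1 : F) * hθ
        | linear_combination (θ * H.σ θ) * two_eq (F := F)
        | linear_combination (-(θ * H.σ θ)) * two_eq (F := F)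
    have hδ : δ = 1 := by
      have h := det_frame hd B d.1.1.toLinearMap
      rw [det_one d] at h
      simp only [LinearEquiv.coe_coe] at h
      rw [show d.1.1 B.e = H.σ θ • n + (θ * δ) • m by rw [hef.1, map_add, map_smul, map_smul, hdn, hdm, smul_smul],
        hdw, show d.1.1 B.f = n + δ • m by rw [hef.2, map_add, hdn, hdm]] at h
      simp [hn, hm, Matrix.det_fin_three, H.add_left, H.smul_left, B.ee, B.ff, B.ef, B.fe, B.ww, B.we, B.wf,
        B.ew, B.fw] at h
      linear_combination -h - δ * (θ + H.σ θ + 1) * hθ + (2 * δ * θ * H.σ θ) * two_eq (F := F)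
    rw [hκ1, one_smul, hx, map_add, map_add, map_smul, map_smul, map_smul, hdw, hdn, hdm, hδ, one_smul] at hyx
    have h := congrArg (fun z => H.h z m) hyx
    simp only [hy, H.add_left, H.smul_left, hwm, hnm, hmm, mul_zero, mul_one, zero_add] at h
    exact hy3 e2 (by linear_combination h)

end Cfsg.Lib.BinaryInv
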